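import Cfsg.Prelude.Def_GeometricClasses
import Cfsg.Agent.InvChar.Symplectic

/-!
Absolutely irreducible 2-groups of symplectic type of order 64 with centre of order 4 in `GL_4`: four generators,
the trace formula for an element normalising the group, and the elements of the normalizer built from them.
-/

set_option autoImplicit false

namespace Cfsg.Agent.SympType4.Scal

open Cfsg Matrix Module

variable {F : Type*} [Field F]

abbrev Q4 (F : Type*) := Matrix (Fin 4) (Fin 4) F

abbrev H4 (F : Type*) [Field F] := GL (Fin 4) F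

/-- a matrix of the group -/
def Mem (R : Subgroup (H4 F)) (X : Q4 F) : Prop := ∃ g ∈ R, (g : Q4 F) = X

/-- the consequences of the symplectic type -/
structure Data (R : Subgroup (H4 F)) (i : F) : Prop where
  two : (2 : F) ≠ 0
  isq : i * i = -1
  imem : Mem R (i • (1 : Q4 F))
  comm : ∀ X Y : Q4 F, Mem R X → Mem R Y → X * Y = Y * X ∨ X * Y = -(Y * X)
  sq : ∀ X : Q4 F, Mem R X → X * X = 1 ∨ X * X = -1
  scal : ∀ X : Q4 F, (∀ Y, Mem R Y → X * Y = Y * X) → ∃ c : F, X = c • (1 : Q4 F)
  card : Nat.card R = 64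

variable {R : Subgroup (H4 F)}

theorem Mem.mul {X Y : Q4 F} : Mem R X → Mem R Y → Mem R (X * Y) := by
  rintro ⟨g, hg, rfl⟩ ⟨h, hh, rfl⟩
  exact ⟨g * h, R.mul_mem hg hh, rfl⟩

theorem Mem.one : Mem R (1 : Q4 F) := ⟨1, R.one_mem, rfl⟩

theorem one_ne_neg (h2 : (2 : F) ≠ 0) : (1 : Q4 F) ≠ -1 := fun h => by
  have h1 := congrFun (congrFun h 0) 0
  simp at h1
  exact h2 (by linear_combination h1)

theorem smul_one_inj {a b : F} (h : a • (1 : Q4 F) = b • (1 : Q4 F)) : a = b := by
  simpa using congrFun (congrFun h 0) 0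

theorem trace_anti (h2 : (2 : F) ≠ 0) {X h : Q4 F} (hh : IsUnit h) (e : X * h = -(h * X)) : Matrix.trace X = 0 := by
  obtain ⟨u, rfl⟩ := hh
  have e' : X = -((u : Q4 F) * X * ((u⁻¹ : (Q4 F)ˣ) : Q4 F)) := by
    rw [← neg_mul, ← e, mul_assoc, ← Units.val_mul, mul_inv_cancel, Units.val_one, mul_one]
  have h3 := congrArg Matrix.trace e'
  rw [Matrix.trace_neg, Matrix.trace_units_conj] at h3
  exact (mul_eq_zero.1 (show (2 : F) * Matrix.trace X = 0 by linear_combination h3)).resolve_left h2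

theorem Mem.isUnit {X : Q4 F} : Mem R X → IsUnit X := by
  rintro ⟨g, -, rfl⟩
  exact g.isUnit

theorem mkData [Finite F] (h2 : (2 : F) ≠ 0) (hRs : Cfsg.Geo.IsSymplecticTypeGroup 2 R)
    (hRi : Cfsg.Geo.ActsAbsolutelyIrreducibly (Cfsg.Geo.matrixSet R))
    (hR6 : Nat.card R = 2 ^ 6) (hRZ : Nat.card (Subgroup.center R) = 4) : ∃ i : F, Data R i := by
  classical
  have hscal : ∀ X : Q4 F, (∀ Y, Mem R Y → X * Y = Y * X) → ∃ c : F, X = c • (1 : Q4 F) := fun X hX =>
    hRi.2 X (by rintro _ ⟨g, hg, rfl⟩; exact hX g ⟨g, hg, rfl⟩)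
  have hcen : ∀ z : Subgroup.center R, ∃ c : F, (((z : R) : H4 F) : Q4 F) = c • (1 : Q4 F) := fun z =>
    hscal _ fun Y ⟨g, hg, hY⟩ => by
      rw [← hY, ← Units.val_mul, ← Units.val_mul]
      exact congrArg (fun x : R => ((x : H4 F) : Q4 F)) (Subgroup.mem_center_iff.1 z.2 ⟨g, hg⟩).symm
  choose χ hχ using hcen
  have hχinj : Function.Injective χ := fun a b h =>
    Subtype.ext (Subtype.ext (Units.ext (by rw [hχ, hχ, h])))
  have h4 : ∀ a : R, a ^ 4 = 1 := fun a => by
    have h := Monoid.pow_exponent_eq_one a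
    rwa [hRs.exponent_eq, show 2 * Nat.gcd 2 2 = 4 from rfl] at h
  have hχ4 : ∀ z, χ z ^ 4 = 1 := fun z => by
    have h := congrArg (fun x : R => ((x : H4 F) : Q4 F)) (h4 (z : R))
    simp only [Subgroup.coe_pow, Units.val_pow_eq_pow_val, hχ, Subgroup.coe_one, Units.val_one] at h
    rw [smul_pow, one_pow] at h
    exact smul_one_inj (h.trans (one_smul F (1 : Q4 F)).symm)
  haveI : Finite (Subgroup.center R) := Nat.finite_of_card_ne_zero (by rw [hRZ]; norm_num)
  haveI : Fintype (Subgroup.center R) := Fintype.ofFinite _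
  obtain ⟨z, hz⟩ : ∃ z, χ z * χ z = -1 := by
    by_contra hcon
    push Not at hcon
    have hsub : Finset.univ.image χ ⊆ ({1, -1} : Finset F) := fun c hc => by
      obtain ⟨z, -, rfl⟩ := Finset.mem_image.1 hc
      have h := hχ4 z
      rcases mul_self_eq_one_iff.1 (show (χ z * χ z) * (χ z * χ z) = 1 by linear_combination h) with h' | h'
      · rcases mul_self_eq_one_iff.1 h' with e | e <;> simp [e]
      · exact absurd h' (hcon z)
    have h1 := Finset.card_le_card hsub
    rw [Finset.card_image_of_injective _ hχinj, Finset.card_univ, ← Nat.card_eq_fintype_card, hRZ] at h1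
    exact absurd (h1.trans Finset.card_le_two) (by norm_num)
  have hval : (((z * z : Subgroup.center R) : R) : H4 F) = -1 := Units.ext (by
    rw [Subgroup.coe_mul, Subgroup.coe_mul, Units.val_mul, hχ, Matrix.smul_mul, Matrix.mul_smul, mul_one, smul_smul,
      hz, neg_one_smul, Units.val_neg, Units.val_one])
  have hzo : orderOf ((z * z : Subgroup.center R) : R) = 2 := by
    refine orderOf_eq_prime (Subtype.ext ?_) fun e => one_ne_neg h2 ?_
    · rw [Subgroup.coe_pow, hval, neg_one_sq, Subgroup.coe_one]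
    · rw [e, Subgroup.coe_one] at hval
      exact congrArg (fun x : H4 F => (x : Q4 F)) hval
  have hfacts := InvChar.Symplectic.commutator_facts (T := R) ⟨hRs.pGroup, hRs.cyclic_of_characteristic⟩ h4
    (z * z).2 hzo
  have hcomm : ∀ g ∈ R, ∀ h ∈ R, g * h = h * g ∨ g * h = -(h * g) := fun g hg h hh => by
    rcases hfacts ⟨g, hg⟩ ⟨h, hh⟩ with e | e
    · have e' := congrArg (fun x : R => (x : H4 F)) e
      simp only [Subgroup.coe_mul, Subgroup.coe_inv, Subgroup.coe_one] at e'
      left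
      calc g * h = (g * h * g⁻¹ * h⁻¹) * (h * g) := by group
        _ = h * g := by rw [e', one_mul]
    · have e' := congrArg (fun x : R => (x : H4 F)) e
      rw [hval] at e'
      simp only [Subgroup.coe_mul, Subgroup.coe_inv] at e'
      right
      calc g * h = (g * h * g⁻¹ * h⁻¹) * (h * g) := by group
        _ = -(h * g) := by rw [e', neg_one_mul]
  refine ⟨χ z, h2, hz, ⟨((z : R) : H4 F), (z : R).2, hχ z⟩, ?_, ?_, hscal, by rw [hR6]; norm_num⟩
  · rintro _ _ ⟨g, hg, rfl⟩ ⟨h, hh, rfl⟩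
    rcases hcomm g hg h hh with e | e
    · left; rw [← Units.val_mul, e, Units.val_mul]
    · right; rw [← Units.val_mul, e, Units.val_neg, Units.val_mul]
  · rintro _ ⟨g, hg, rfl⟩
    have hgg : ∀ Y, Mem R Y → ((g * g : H4 F) : Q4 F) * Y = Y * ((g * g : H4 F) : Q4 F) := by
      rintro _ ⟨h, hh, rfl⟩
      rw [← Units.val_mul, ← Units.val_mul]
      congr 1
      rcases hcomm g hg h hh with e | e
      · rw [mul_assoc, e, ← mul_assoc, e, mul_assoc]
      · rw [mul_assoc, e, mul_neg, ← mul_assoc, e, neg_mul, neg_neg, mul_assoc]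
    obtain ⟨c, hc⟩ := hscal _ hgg
    have h := congrArg (fun x : R => ((x : H4 F) : Q4 F)) (h4 ⟨g, hg⟩)
    simp only [Subgroup.coe_pow, Subgroup.coe_one] at h
    rw [show g ^ 4 = (g * g) * (g * g) by simp [pow_succ, mul_assoc], Units.val_mul, hc, Matrix.smul_mul, Matrix.mul_smul, mul_one,
      smul_smul, Units.val_one] at h
    rcases mul_self_eq_one_iff.1 (smul_one_inj (h.trans (one_smul F (1 : Q4 F)).symm)) with rfl | rfl
    · left; rw [← Units.val_mul, hc, one_smul]
    · right; rw [← Units.val_mul, hc, neg_one_smul]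

/-- a scalar fourth root of one -/
def Root (c i : F) : Prop := c = 1 ∨ c = -1 ∨ c = i ∨ c = -i

variable {i : F}

theorem root_iff (hi : i * i = -1) {c : F} : Root c i ↔ c * c = 1 ∨ c * c = -1 := by
  constructor
  · rintro (rfl | rfl | rfl | rfl) <;> simp [hi]
  · rintro (h | h)
    · rcases mul_self_eq_one_iff.1 h with e | e
      · exact Or.inl e
      · exact Or.inr (Or.inl e)
    · rcases mul_self_eq_mul_self_iff.1 (h.trans hi.symm) with e | e
      · exact Or.inr (Or.inr (Or.inl e))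
      · exact Or.inr (Or.inr (Or.inr e))

theorem Data.neg_one (D : Data R i) : Mem R (-1 : Q4 F) := by
  have h := D.imem.mul D.imem
  rwa [Matrix.smul_mul, Matrix.mul_smul, mul_one, smul_smul, D.isq, neg_one_smul] at h

theorem Data.smul_mem (D : Data R i) {c : F} (hc : Root c i) {X : Q4 F} (hX : Mem R X) : Mem R (c • X) := by
  have hi : ∀ {X : Q4 F}, Mem R X → Mem R (i • X) := fun {X} hX => by
    have := D.imem.mul hX
    rwa [Matrix.smul_mul, one_mul] at this
  have hn : ∀ {X : Q4 F}, Mem R X → Mem R (-X) := fun {X} hX => by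
    have := D.neg_one.mul hX
    rwa [neg_one_mul] at this
  rcases hc with rfl | rfl | rfl | rfl
  · rwa [one_smul]
  · rw [neg_one_smul]; exact hn hX
  · exact hi hX
  · rw [neg_smul]; exact hn (hi hX)

theorem Data.root_of_mem (D : Data R i) {c : F} (h : Mem R (c • (1 : Q4 F))) : Root c i := by
  refine (root_iff D.isq).2 ?_
  rcases D.sq _ h with e | e <;> rw [Matrix.smul_mul, Matrix.mul_smul, mul_one, smul_smul] at e
  · exact Or.inl (smul_one_inj (e.trans (one_smul F (1 : Q4 F)).symm))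
  · exact Or.inr (smul_one_inj (e.trans (neg_one_smul F (1 : Q4 F)).symm))

theorem Data.exists_anti (D : Data R i) {X : Q4 F} (hX : Mem R X) (hns : ∀ c : F, X ≠ c • 1) :
    ∃ Y, Mem R Y ∧ X * Y = -(Y * X) := by
  by_contra hcon
  push Not at hcon
  obtain ⟨c, hc⟩ := D.scal X fun Y hY => (D.comm X Y hX hY).resolve_right (hcon Y hY)
  exact hns c hc

theorem Data.adjust (D : Data R i) {X : Q4 F} (hX : Mem R X) :
    ∃ c : F, Root c i ∧ c ≠ 0 ∧ Mem R (c • X) ∧ (c • X) * (c • X) = 1 := by
  rcases D.sq X hX with h | h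
  · exact ⟨1, Or.inl rfl, one_ne_zero, by rwa [one_smul], by rwa [one_smul]⟩
  · refine ⟨i, Or.inr (Or.inr (Or.inl rfl)), fun e => ?_, D.smul_mem (Or.inr (Or.inr (Or.inl rfl))) hX, ?_⟩
    · have := D.isq
      rw [e] at this
      simp at this
    · rw [Matrix.smul_mul, Matrix.mul_smul, smul_smul, h, D.isq, neg_one_smul, neg_neg]

theorem mul_comm_rule {X g h : Q4 F} {s t : Bool} (hg : X * g = bif s then g * X else -(g * X))
    (hh : X * h = bif t then h * X else -(h * X)) :
    X * (g * h) = bif (s == t) then g * h * X else -(g * h * X) := by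
  cases s <;> cases t <;> simp at hg hh ⊢
  all_goals (rw [← mul_assoc, hg]; simp [neg_mul, mul_assoc, hh, mul_neg])

/-- four generators -/
structure Gens (R : Subgroup (H4 F)) (a : Fin 4 → Q4 F) : Prop where
  mem : ∀ j, Mem R (a j)
  sq : ∀ j, a j * a j = 1
  anti : a 0 * a 1 = -(a 1 * a 0) ∧ a 2 * a 3 = -(a 3 * a 2)
  com : a 0 * a 2 = a 2 * a 0 ∧ a 0 * a 3 = a 3 * a 0 ∧ a 1 * a 2 = a 2 * a 1 ∧ a 1 * a 3 = a 3 * a 1

theorem anti_symm {X Y : Q4 F} (h : X * Y = -(Y * X)) : Y * X = -(X * Y) := by rw [h, neg_neg]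

theorem Data.exists_gens [Finite F] (D : Data R i) : ∃ a, Gens R a := by
  classical
  haveI : Finite R := Nat.finite_of_card_ne_zero (by rw [D.card]; norm_num)
  have small : ∀ T : Finset (Q4 F), (∀ X, Mem R X → X ∈ T) → 64 ≤ T.card := fun T hT => by
    have h := Nat.card_le_card_of_injective (fun g : R => (⟨((g : H4 F) : Q4 F), hT _ ⟨g, g.2, rfl⟩⟩ : T))
      fun g h e => Subtype.ext (Units.ext (congrArg Subtype.val e :))
    rwa [D.card, Nat.card_eq_fintype_card, Fintype.card_coe] at h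
  obtain ⟨x, hx, hxns⟩ : ∃ x, Mem R x ∧ ∀ c : F, x ≠ c • 1 := by
    by_contra hcon
    push Not at hcon
    have h := small (({1, -1, i, -i} : Finset F).image fun c => c • (1 : Q4 F)) fun X hX => by
      obtain ⟨c, hc⟩ := hcon X hX
      refine Finset.mem_image.2 ⟨c, ?_, hc.symm⟩
      rcases D.root_of_mem (hc ▸ hX) with e | e | e | e <;> simp [e]
    have := Finset.card_image_le (s := ({1, -1, i, -i} : Finset F)) (f := fun c => c • (1 : Q4 F))
    have := Finset.card_le_four (a := (1 : F)) (b := -1) (c := i) (d := -i)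
    omega
  obtain ⟨c, -, hc0, ha, ha2⟩ := D.adjust hx
  have hans : ∀ b : F, c • x ≠ b • 1 := fun b e => hxns (c⁻¹ * b) (by rw [mul_smul, ← e, inv_smul_smul₀ hc0])
  set a₀ := c • x
  obtain ⟨y, hy, hy0⟩ := D.exists_anti ha hans
  obtain ⟨d, -, hd0, hb, hb2⟩ := D.adjust hy
  have h01 : a₀ * (d • y) = -((d • y) * a₀) := by rw [Matrix.mul_smul, hy0, smul_neg, Matrix.smul_mul]
  set a₁ := d • y
  let K : Q4 F → Prop := fun g => a₀ * g = g * a₀ ∧ a₁ * g = g * a₁
  have hred : ∀ g, Mem R g → ∃ b : Fin 4, ∃ k, Mem R k ∧ K k ∧ g = ![1, a₀, a₁, a₁ * a₀] b * k := by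
    intro g hg
    have e0 : a₀ * a₀ = bif true then a₀ * a₀ else -(a₀ * a₀) := rfl
    have e1 : a₁ * a₁ = bif true then a₁ * a₁ else -(a₁ * a₁) := rfl
    have e01 : a₀ * a₁ = bif false then a₁ * a₀ else -(a₁ * a₀) := h01
    have e10 : a₁ * a₀ = bif false then a₀ * a₁ else -(a₀ * a₁) := anti_symm h01
    rcases D.comm _ _ ha hg with p | p <;> rcases D.comm _ _ hb hg with q | q
    · exact ⟨0, g, hg, ⟨p, q⟩, (one_mul g).symm⟩
    · refine ⟨1, a₀ * g, ha.mul hg, ⟨?_, ?_⟩, ?_⟩
      · exact mul_comm_rule e0 (show a₀ * g = bif true then g * a₀ else -(g * a₀) from p)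
      · exact mul_comm_rule e10 (show a₁ * g = bif false then g * a₁ else -(g * a₁) from q)
      · show g = a₀ * (a₀ * g)
        rw [← mul_assoc, ha2, one_mul]
    · refine ⟨2, a₁ * g, hb.mul hg, ⟨?_, ?_⟩, ?_⟩
      · exact mul_comm_rule e01 (show a₀ * g = bif false then g * a₀ else -(g * a₀) from p)
      · exact mul_comm_rule e1 (show a₁ * g = bif true then g * a₁ else -(g * a₁) from q)
      · show g = a₁ * (a₁ * g)
        rw [← mul_assoc, hb2, one_mul]
    · refine ⟨3, a₀ * a₁ * g, (ha.mul hb).mul hg, ⟨?_, ?_⟩, ?_⟩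
      · exact mul_comm_rule (mul_comm_rule e0 e01) (show a₀ * g = bif false then g * a₀ else -(g * a₀) from p)
      · exact mul_comm_rule (mul_comm_rule e10 e1) (show a₁ * g = bif false then g * a₁ else -(g * a₁) from q)
      · show g = a₁ * a₀ * (a₀ * a₁ * g)
        rw [mul_assoc a₁, ← mul_assoc a₀ (a₀ * a₁), ← mul_assoc a₀ a₀, ha2, one_mul, ← mul_assoc, hb2, one_mul]
  obtain ⟨u, hu, hKu, huns⟩ : ∃ u, Mem R u ∧ K u ∧ ∀ b : F, u ≠ b • 1 := by
    by_contra hcon
    push Not at hcon
    have h := small ((Finset.univ ×ˢ ({1, -1, i, -i} : Finset F)).image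
      fun p : Fin 4 × F => p.2 • ![1, a₀, a₁, a₁ * a₀] p.1) fun X hX => by
        obtain ⟨b, k, hk, hKk, rfl⟩ := hred X hX
        obtain ⟨e, rfl⟩ := hcon k hk hKk
        refine Finset.mem_image.2 ⟨(b, e), ?_, by simp only [Matrix.mul_smul, mul_one]⟩
        rcases D.root_of_mem hk with h | h | h | h <;> simp [h]
    have := Finset.card_image_le (s := (Finset.univ : Finset (Fin 4)) ×ˢ ({1, -1, i, -i} : Finset F))
      (f := fun p : Fin 4 × F => p.2 • ![1, a₀, a₁, a₁ * a₀] p.1)
    have := Finset.card_le_four (a := (1 : F)) (b := -1) (c := i) (d := -i)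
    rw [Finset.card_product, Finset.card_univ, Fintype.card_fin] at *
    omega
  obtain ⟨e, -, he0, hc2, hc22⟩ := D.adjust hu
  have hcns : ∀ b : F, e • u ≠ b • 1 := fun b h => huns (e⁻¹ * b) (by rw [mul_smul, ← h, inv_smul_smul₀ he0])
  have h02 : a₀ * (e • u) = (e • u) * a₀ := by rw [Matrix.mul_smul, hKu.1, Matrix.smul_mul]
  have h12 : a₁ * (e • u) = (e • u) * a₁ := by rw [Matrix.mul_smul, hKu.2, Matrix.smul_mul]
  set a₂ := e • u
  obtain ⟨w, hw, hw2⟩ := D.exists_anti hc2 hcns
  obtain ⟨b, k, hk, hKk, rfl⟩ := hred w hw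
  have hcb : a₂ * ![1, a₀, a₁, a₁ * a₀] b = ![1, a₀, a₁, a₁ * a₀] b * a₂ := by
    fin_cases b
    · simp
    · exact h02.symm
    · exact h12.symm
    · show a₂ * (a₁ * a₀) = a₁ * a₀ * a₂
      rw [← mul_assoc, ← h12, mul_assoc, ← h02, mul_assoc]
  have hku : IsUnit (![1, a₀, a₁, a₁ * a₀] b) := by
    fin_cases b
    · exact isUnit_one
    · exact ha.isUnit
    · exact hb.isUnit
    · exact (hb.mul ha).isUnit
  have hk2 : a₂ * k = -(k * a₂) := by
    rw [← mul_assoc, hcb, mul_assoc, mul_assoc, ← mul_neg] at hw2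
    exact hku.mul_left_cancel hw2
  obtain ⟨f, -, -, hd, hd2⟩ := D.adjust hk
  refine ⟨![a₀, a₁, a₂, f • k], fun j => ?_, fun j => ?_, ⟨h01, ?_⟩, ⟨h02, ?_, h12, ?_⟩⟩
  · fin_cases j <;> assumption
  · fin_cases j <;> assumption
  · show a₂ * (f • k) = -((f • k) * a₂)
    rw [Matrix.mul_smul, hk2, smul_neg, Matrix.smul_mul]
  · show a₀ * (f • k) = (f • k) * a₀
    rw [Matrix.mul_smul, hKk.1, Matrix.smul_mul]
  · show a₁ * (f • k) = (f • k) * a₁
    rw [Matrix.mul_smul, hKk.2, Matrix.smul_mul]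

/-- monomials -/
def mono (a : Fin 4 → Q4 F) (b : Bool × Bool × Bool × Bool) : Q4 F :=
  (bif b.1 then a 0 else 1) * (bif b.2.1 then a 1 else 1) * (bif b.2.2.1 then a 2 else 1) *
    (bif b.2.2.2 then a 3 else 1)

/-- which generators commute with a monomial -/
def pat (b : Bool × Bool × Bool × Bool) (j : Fin 4) : Bool :=
  ![!b.2.1, !b.1, !b.2.2.2, !b.2.2.1] j

theorem pat_inj : ∀ b b', (∀ j, pat b j = pat b' j) → b = b' := by decide

theorem opt_rule {X g : Q4 F} {s : Bool} (b : Bool) (h : X * g = bif s then g * X else -(g * X)) :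
    X * (bif b then g else 1) = bif (!b || s) then (bif b then g else 1) * X else -((bif b then g else 1) * X) := by
  cases b
  · simp
  · simpa using h

namespace Gens

variable {a : Fin 4 → Q4 F}

theorem comm_mono (hG : Gens R a) (j : Fin 4) (b : Bool × Bool × Bool × Bool) :
    a j * mono a b = bif pat b j then mono a b * a j else -(mono a b * a j) := by
  have h : ∀ k, a j * a k = bif ![![true, false, true, true], ![false, true, true, true],
      ![true, true, true, false], ![true, true, false, true]] j k then a k * a j else -(a k * a j) := by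
    obtain ⟨⟨h01, h23⟩, h02, h03, h12, h13⟩ := And.intro hG.anti hG.com
    intro k
    fin_cases j <;> fin_cases k <;>
      first
        | rfl | exact h01 | exact h23 | exact anti_symm h01 | exact anti_symm h23
        | exact h02 | exact h03 | exact h12 | exact h13
        | exact h02.symm | exact h03.symm | exact h12.symm | exact h13.symm
  have := mul_comm_rule (mul_comm_rule (mul_comm_rule (opt_rule b.1 (h 0)) (opt_rule b.2.1 (h 1)))
    (opt_rule b.2.2.1 (h 2))) (opt_rule b.2.2.2 (h 3))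
  obtain ⟨b0, b1, b2, b3⟩ := b
  rw [mono]
  fin_cases j <;> cases b0 <;> cases b1 <;> cases b2 <;> cases b3 <;> exact this

theorem mono_mem (hG : Gens R a) (b : Bool × Bool × Bool × Bool) : Mem R (mono a b) := by
  have h : ∀ (c : Bool) j, Mem R (bif c then a j else 1) := fun c j => by
    cases c
    · exact Mem.one
    · exact hG.mem j
  exact (((h _ 0).mul (h _ 1)).mul (h _ 2)).mul (h _ 3)

theorem cover (hG : Gens R a) (D : Data R i) {X : Q4 F} (hX : Mem R X) :
    ∃ c b, Root c i ∧ X = c • mono a b := by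
  classical
  haveI : Finite R := Nat.finite_of_card_ne_zero (by rw [D.card]; norm_num)
  let cs : Fin 4 → F := ![1, -1, i, -i]
  have hcs : ∀ k, Root (cs k) i := fun k => by
    fin_cases k
    · exact Or.inl rfl
    · exact Or.inr (Or.inl rfl)
    · exact Or.inr (Or.inr (Or.inl rfl))
    · exact Or.inr (Or.inr (Or.inr rfl))
  choose f hf hfv using fun p : (Bool × Bool × Bool × Bool) × Fin 4 => D.smul_mem (hcs p.2) (hG.mono_mem p.1)
  have h4 : ∀ k, cs k ≠ 0 := fun k e => by
    rcases (root_iff D.isq).1 (hcs k) with h | h <;> simp [e] at h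
  have hi0 : i ≠ 0 := h4 2
  have h12 : ∀ {x : F}, x ≠ 0 → x ≠ -x := fun {x} hx e =>
    (mul_eq_zero.1 (show (2 : F) * x = 0 by linear_combination e)).elim D.two hx
  have hcsinj : Function.Injective cs := by
    have e2 : i ≠ 1 ∧ i ≠ -1 := by
      constructor <;> intro e <;> have := D.isq <;> rw [e] at this
      · exact h12 one_ne_zero (by linear_combination this)
      · exact h12 one_ne_zero (by linear_combination this)
    intro k l h
    have := e2.1; have := e2.2; have := h12 one_ne_zero; have := h12 hi0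
    fin_cases k <;> fin_cases l <;> simp [cs] at h ⊢ <;>
      first
        | exact absurd h (by assumption) | exact absurd h.symm (by assumption)
        | exact absurd (neg_eq_iff_eq_neg.1 h) (by assumption)
        | exact absurd (neg_eq_iff_eq_neg.1 h.symm) (by assumption)
  have hfinj : Function.Injective fun p => (⟨f p, hf p⟩ : R) := by
    rintro ⟨b, k⟩ ⟨b', k'⟩ h
    have h' := congrArg (fun x : R => ((x : H4 F) : Q4 F)) h
    simp only [hfv] at h'
    have hb : b = b' := pat_inj b b' fun j => by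
      have e1 := hG.comm_mono j b
      have e2 := hG.comm_mono j b'
      have hj : a j * (cs k • mono a b) = a j * (cs k' • mono a b') := by rw [h']
      cases hp : pat b j <;> cases hp' : pat b' j <;> try rfl
      all_goals
        exfalso
        simp only [hp, hp', cond_true, cond_false] at e1 e2
        rw [Matrix.mul_smul, Matrix.mul_smul, e1, e2] at hj
        have hu : IsUnit (cs k' • mono a b' * a j) :=
          ((D.smul_mem (hcs k') (hG.mono_mem b')).mul (hG.mem j)).isUnit
        simp only [smul_neg, ← Matrix.smul_mul, h'] at hj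
        obtain ⟨u, hu⟩ := hu
        rw [← hu] at hj
        have h3 := congrArg (fun Z => ((u⁻¹ : (Q4 F)ˣ) : Q4 F) * Z) hj
        simp [← Units.val_mul] at h3
        first
          | exact one_ne_neg D.two h3
          | exact one_ne_neg D.two h3.symm
    subst hb
    obtain rfl : k = k' := hcsinj (by
      have h3 := congrArg (fun Z => Z * Classical.choose ((hG.mono_mem b).isUnit.exists_right_inv)) h'
      simp only [Matrix.smul_mul, Classical.choose_spec ((hG.mono_mem b).isUnit.exists_right_inv)] at h3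
      exact smul_one_inj h3)
    rfl
  obtain ⟨g, hg, rfl⟩ := hX
  obtain ⟨⟨b, k⟩, hp⟩ := ((Nat.bijective_iff_injective_and_card _).2 ⟨hfinj, by simp [D.card]⟩).2 ⟨g, hg⟩
  exact ⟨cs k, b, hcs k, by rw [← hfv ⟨b, k⟩]; exact congrArg (fun x : R => ((x : H4 F) : Q4 F)) hp.symm⟩

theorem normalizes (hG : Gens R a) (D : Data R i) (g : H4 F)
    (h : ∀ j, Mem R ((g : Q4 F) * a j * ((g⁻¹ : H4 F) : Q4 F))) : g ∈ Cfsg.Geo.subgroupNormalizer R := by
  haveI : Finite R := Nat.finite_of_card_ne_zero (by rw [D.card]; norm_num)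
  haveI : Finite ((R : Subgroup (H4 F)) : Set (H4 F)) := ‹Finite R›
  refine Subgroup.mem_normalizer_fintype fun n hn => ?_
  obtain ⟨c, b, hc, hb⟩ := hG.cover D ⟨n, hn, rfl⟩
  set G := (g : Q4 F) with hGd
  set G' := ((g⁻¹ : H4 F) : Q4 F) with hG'd
  have hGG : G' * G = 1 := by rw [hGd, hG'd, ← Units.val_mul, inv_mul_cancel]; rfl
  have hmul : ∀ {X Y : Q4 F}, Mem R (G * X * G') → Mem R (G * Y * G') → Mem R (G * (X * Y) * G') := fun {X Y} hX hY => by
    have := hX.mul hY
    rwa [show G * X * G' * (G * Y * G') = G * X * (G' * G) * Y * G' by simp only [mul_assoc], hGG, mul_one,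
      mul_assoc G X Y] at this
  have hopt : ∀ (e : Bool) j, Mem R (G * (bif e then a j else 1) * G') := fun e j => by
    cases e
    · simp only [cond_false, mul_one]
      rw [hGd, hG'd, ← Units.val_mul, mul_inv_cancel]
      exact Mem.one
    · exact h j
  obtain ⟨m, hm, hmv⟩ := D.smul_mem hc (hmul (hmul (hmul (hopt b.1 0) (hopt b.2.1 1)) (hopt b.2.2.1 2)) (hopt b.2.2.2 3))
  suffices g * n * g⁻¹ = m by rw [this]; exact hm
  refine Units.ext ?_
  rw [hmv, Units.val_mul, Units.val_mul, hb, Matrix.mul_smul, Matrix.smul_mul]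
  rfl

end Gens

/-- the fixed subgroup of an element -/
noncomputable def fixR (R : Subgroup (H4 F)) (t : H4 F) : Subgroup (H4 F) := R ⊓ Subgroup.centralizer {t}

theorem mem_fixR {t g : H4 F} : g ∈ fixR R t ↔ g ∈ R ∧ t * g = g * t := by
  simp [fixR, Subgroup.mem_centralizer_singleton_iff, eq_comm]

theorem Data.root_of_pow (D : Data R i) {t : H4 F} {r : ℕ} (hr : Odd r) (ht : t ^ r = 1)
    {g : H4 F} (hg : g ∈ R) {c : F} (hc : ((t * g * t⁻¹ : H4 F) : Q4 F) = c • (g : Q4 F)) :
    t * g = g * t := by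
  have hgn : ∀ n : ℕ, ((t ^ n * g * (t ^ n)⁻¹ : H4 F) : Q4 F) = c ^ n • (g : Q4 F) := by
    intro n
    induction n with
    | zero => simp
    | succ n ih =>
      rw [show t ^ (n + 1) * g * (t ^ (n + 1))⁻¹ = t * (t ^ n * g * (t ^ n)⁻¹) * t⁻¹ by
        rw [pow_succ', _root_.mul_inv_rev]; group, Units.val_mul, Units.val_mul, ih, Matrix.mul_smul, Matrix.smul_mul,
        ← Units.val_mul, ← Units.val_mul, hc, smul_smul, pow_succ]
  have hcr : c ^ r = 1 := by
    have h := hgn r
    rw [ht, one_mul, inv_one, mul_one] at h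
    have h' := congrArg (fun Z : Q4 F => Z * ((g⁻¹ : H4 F) : Q4 F)) h
    simp only [Matrix.smul_mul, ← Units.val_mul, mul_inv_cancel, Units.val_one] at h'
    exact (smul_one_inj ((one_smul F (1 : Q4 F)).trans h')).symm
  have hcc : c * c = 1 := by
    have h2 : ((t * g * t⁻¹ * (t * g * t⁻¹) : H4 F) : Q4 F) = (c * c) • ((g : Q4 F) * (g : Q4 F)) := by
      rw [Units.val_mul, hc, Matrix.smul_mul, Matrix.mul_smul, smul_smul]
    rw [show t * g * t⁻¹ * (t * g * t⁻¹) = t * (g * g) * t⁻¹ by group, Units.val_mul, Units.val_mul, Units.val_mul] at h2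
    rcases D.sq _ ⟨g, hg, rfl⟩ with e | e <;> rw [e] at h2
    · rw [mul_one, ← Units.val_mul, mul_inv_cancel, Units.val_one] at h2
      exact (smul_one_inj ((one_smul F (1 : Q4 F)).trans h2)).symm
    · rw [mul_neg, mul_one, neg_mul, ← Units.val_mul, mul_inv_cancel, Units.val_one, smul_neg, neg_inj] at h2
      exact (smul_one_inj ((one_smul F (1 : Q4 F)).trans h2)).symm
  obtain ⟨k, rfl⟩ := hr
  rw [pow_succ, pow_mul, _root_.sq, hcc, one_pow, one_mul] at hcr
  subst hcr
  rw [one_smul] at hc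
  exact mul_inv_eq_iff_eq_mul.1 (Units.ext hc)

theorem Data.trace_formula [Finite F] (D : Data R i) {t : H4 F} (htN : t ∈ Cfsg.Geo.subgroupNormalizer R) {r : ℕ}
    (hr : Odd r) (ht : t ^ r = 1) :
    (Nat.card (fixR R t) : F) = 4 * (Matrix.trace (t : Q4 F) * Matrix.trace ((t⁻¹ : H4 F) : Q4 F)) := by
  classical
  haveI : Finite R := Nat.finite_of_card_ne_zero (by rw [D.card]; norm_num)
  haveI : Fintype R := Fintype.ofFinite _
  set X := (t : Q4 F)
  set S := ∑ g : R, ((g : H4 F) : Q4 F) * X * (((g : H4 F)⁻¹ : H4 F) : Q4 F) with hS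
  obtain ⟨c, hc⟩ := D.scal S (by
    rintro _ ⟨h, hh, rfl⟩
    rw [hS, Finset.sum_mul, Finset.mul_sum]
    refine Fintype.sum_equiv (Equiv.mulLeft (⟨h, hh⟩ : R)⁻¹) _ _ fun g => ?_
    simp only [Equiv.coe_mulLeft, Subgroup.coe_mul, Subgroup.coe_inv, ← Units.val_mul, X]
    congr 1
    group)
  have htr : (64 : F) * Matrix.trace X = 4 * c := by
    have h := congrArg Matrix.trace hc
    rw [hS, Matrix.trace_sum, Matrix.trace_smul, Matrix.trace_one] at h
    simp only [Matrix.trace_units_conj, Finset.sum_const, Finset.card_univ, ← Nat.card_eq_fintype_card, D.card,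
      nsmul_eq_mul, smul_eq_mul] at h
    rw [Nat.card_eq_fintype_card, Fintype.card_fin] at h
    push_cast at h
    linear_combination h
  have hc16 : c = 16 * Matrix.trace X := by
    have h4 : (4 : F) ≠ 0 := by
      rw [show (4 : F) = 2 * 2 by norm_num]
      exact mul_ne_zero D.two D.two
    exact mul_left_cancel₀ h4 (by linear_combination -htr)
  have hterm : ∀ g : R, Matrix.trace (((g : H4 F) : Q4 F) * X * (((g : H4 F)⁻¹ : H4 F) : Q4 F) * ((t⁻¹ : H4 F) : Q4 F)) =
      if (g : H4 F) ∈ fixR R t then 4 else 0 := by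
    intro g
    simp only [X, ← Units.val_mul]
    split_ifs with hg
    · rw [show (g : H4 F) * t * (g : H4 F)⁻¹ * t⁻¹ = 1 by rw [← (mem_fixR.1 hg).2]; group, Units.val_one,
        Matrix.trace_one, Fintype.card_fin, Nat.cast_ofNat]
    · have hmem : (g : H4 F) * t * (g : H4 F)⁻¹ * t⁻¹ ∈ R := by
        rw [show (g : H4 F) * t * (g : H4 F)⁻¹ * t⁻¹ = (g : H4 F) * (t * (g : H4 F)⁻¹ * t⁻¹) by group]
        exact R.mul_mem g.2 ((Subgroup.mem_normalizer_iff.1 htN _).1 (R.inv_mem g.2))
      by_cases hsc : ∃ b : F, (((g : H4 F) * t * (g : H4 F)⁻¹ * t⁻¹ : H4 F) : Q4 F) = b • 1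
      · obtain ⟨b, hb⟩ := hsc
        refine absurd (mem_fixR.2 ⟨g.2, ?_⟩) hg
        have hb0 : b ≠ 0 := fun e => by
          rw [e, zero_smul] at hb
          exact Units.ne_zero _ hb
        refine D.root_of_pow (c := b⁻¹) hr ht g.2 ?_
        have h := congrArg (fun Z : Q4 F => b⁻¹ • (Z * ((t * (g : H4 F) * t⁻¹ : H4 F) : Q4 F))) hb
        simp only [← Units.val_mul, Matrix.smul_mul, one_mul, smul_smul, inv_mul_cancel₀ hb0, one_smul] at h
        rw [← h]
        congr 2
        group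
      · push Not at hsc
        obtain ⟨Y, hY, hYa⟩ := D.exists_anti ⟨_, hmem, rfl⟩ hsc
        exact trace_anti D.two hY.isUnit hYa
  have h1 := congrArg (fun Z : Q4 F => Matrix.trace (Z * ((t⁻¹ : H4 F) : Q4 F))) hc
  simp only [hS, Finset.sum_mul, Matrix.trace_sum, hterm, Finset.sum_ite, Finset.sum_const, Finset.sum_const_zero,
    add_zero, nsmul_eq_mul, Matrix.smul_mul, one_mul, Matrix.trace_smul, smul_eq_mul, hc16] at h1
  have hcard : (Finset.univ.filter fun g : R => (g : H4 F) ∈ fixR R t).card = Nat.card (fixR R t) := by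
    rw [← Fintype.card_subtype, ← Nat.card_eq_fintype_card]
    exact Nat.card_congr (Equiv.subtypeSubtypeEquivSubtype fun {g} hg => (mem_fixR.1 hg).1)
  rw [hcard] at h1
  have h4 : (4 : F) ≠ 0 := by
    rw [show (4 : F) = 2 * 2 by norm_num]
    exact mul_ne_zero D.two D.two
  exact mul_left_cancel₀ h4 (by linear_combination h1)

theorem Data.card_fix (D : Data R i) {t : H4 F} (htN : t ∈ Cfsg.Geo.subgroupNormalizer R) {r : ℕ} [Fact r.Prime]
    (ht : t ^ r = 1) :
    4 ≤ Nat.card (fixR R t) ∧ Nat.card (fixR R t) ∣ 64 ∧ 64 ≡ Nat.card (fixR R t) [MOD r] := by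
  classical
  haveI : Finite R := Nat.finite_of_card_ne_zero (by rw [D.card]; norm_num)
  haveI : Fintype R := Fintype.ofFinite _
  haveI : Finite (fixR R t) :=
    Finite.of_injective (fun g => (⟨g.1, (mem_fixR.1 g.2).1⟩ : R)) fun g h e =>
      Subtype.ext (congrArg Subtype.val e :)
  refine ⟨?_, D.card ▸ Subgroup.card_dvd_of_le inf_le_left, ?_⟩
  · obtain ⟨z, hzR, hz⟩ := D.imem
    have hz' : z ∈ fixR R t := mem_fixR.2 ⟨hzR, Units.ext (by
      rw [Units.val_mul, Units.val_mul, hz, Matrix.mul_smul, Matrix.smul_mul, one_mul, mul_one])⟩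
    have ho : orderOf z = 4 := by
      have hsq : ((z ^ 2 : H4 F) : Q4 F) = -1 := by
        rw [Units.val_pow_eq_pow_val, hz, _root_.sq, Matrix.smul_mul, Matrix.mul_smul, mul_one, smul_smul, D.isq,
          neg_one_smul]
      refine orderOf_eq_prime_pow (p := 2) (n := 1) (fun e => one_ne_neg D.two ?_) (Units.ext ?_)
      · rw [pow_one] at e
        rw [e, Units.val_one] at hsq
        exact hsq
      · rw [show 2 ^ (1 + 1) = 2 + 2 by norm_num, pow_add, Units.val_mul, hsq, neg_mul_neg, one_mul]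
        rfl
    have hle := Nat.le_of_dvd Nat.card_pos (Subgroup.card_dvd_of_le (Subgroup.zpowers_le.2 hz'))
    rwa [Nat.card_zpowers, ho] at hle
  · let σ : Function.End R := fun g => ⟨t * g * t⁻¹, (Subgroup.mem_normalizer_iff.1 htN _).1 g.2⟩
    have hσ : ∀ (n : ℕ) g, (((σ ^ n) g : R) : H4 F) = t ^ n * g * (t ^ n)⁻¹ := fun n => by
      induction n with
      | zero => intro g; rw [pow_zero, pow_zero, one_mul, inv_one, mul_one]; rfl
      | succ n ih =>
        intro g
        rw [pow_succ' σ, pow_succ' t, _root_.mul_inv_rev,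
          show t * t ^ n * (g : H4 F) * ((t ^ n)⁻¹ * t⁻¹) = t * (t ^ n * g * (t ^ n)⁻¹) * t⁻¹ by group, ← ih]
        rfl
    have h1 := Equiv.Perm.card_fixedPoints_modEq (f := σ) (p := r) (n := 1) (by
      rw [pow_one]
      funext g
      exact Subtype.ext (by rw [hσ, ht, one_mul, inv_one, mul_one]; rfl))
    rw [← Nat.card_eq_fintype_card, D.card, ← Nat.card_eq_fintype_card] at h1
    have e : Nat.card (Function.fixedPoints σ) = Nat.card (fixR R t) := Nat.card_congr
      { toFun := fun g => ⟨(g.1 : H4 F), mem_fixR.2 ⟨g.1.2,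
          mul_inv_eq_iff_eq_mul.1 (congrArg Subtype.val g.2)⟩⟩
        invFun := fun g => ⟨⟨g.1, (mem_fixR.1 g.2).1⟩, Subtype.ext (mul_inv_eq_iff_eq_mul.2 (mem_fixR.1 g.2).2)⟩
        left_inv := fun g => rfl
        right_inv := fun g => rfl }
    rwa [e] at h1

theorem Data.scalar_of_fix_all (D : Data R i) {t : H4 F} (h : Nat.card (fixR R t) = 64) :
    ∃ c : F, (t : Q4 F) = c • 1 := by
  haveI : Finite R := Nat.finite_of_card_ne_zero (by rw [D.card]; norm_num)
  haveI : Finite (R : Set (H4 F)) := ‹Finite R›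
  have heq : fixR R t = R := Subgroup.eq_of_le_of_card_ge inf_le_left (by rw [h, D.card])
  refine D.scal _ ?_
  rintro _ ⟨g, hg, rfl⟩
  rw [← heq] at hg
  rw [← Units.val_mul, ← Units.val_mul, (mem_fixR.1 hg).2]

/-- no prime above five in the normalizer -/
theorem Data.le_five [Finite F] (D : Data R i) {t : H4 F} (htN : t ∈ Cfsg.Geo.subgroupNormalizer R) {r : ℕ}
    [hr : Fact r.Prime] (hodd : Odd r) (ht : t ^ r = 1) (hns : ∀ c : F, (t : Q4 F) ≠ c • 1) : r ≤ 5 := by
  classical
  haveI : Finite R := Nat.finite_of_card_ne_zero (by rw [D.card]; norm_num)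
  obtain ⟨h4, hdvd, hmod⟩ := D.card_fix htN ht
  by_contra h5
  have hrp := hr.out
  obtain ⟨k, hk, hkeq⟩ := (Nat.dvd_prime_pow Nat.prime_two).1 (show Nat.card (fixR R t) ∣ 2 ^ 6 by norm_num; exact hdvd)
  have hk6 : k ≠ 6 := fun e => by
    obtain ⟨c, hc⟩ := D.scalar_of_fix_all (t := t) (by rw [hkeq, e]; norm_num)
    exact hns c hc
  have hd : r ∣ 64 - Nat.card (fixR R t) :=
    (Nat.modEq_iff_dvd' (Nat.le_of_dvd (by norm_num) hdvd)).1 hmod.symm
  have hk3 : k = 3 := by
    by_contra hk3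
    have hk2 : 2 ≤ k := by
      rcases k with _ | _ | k <;> simp [hkeq] at h4 ⊢
    rw [hkeq] at hd
    have hr2 : ¬ r ∣ 2 := fun h => by
      have := Nat.le_of_dvd (by norm_num) h
      omega
    have hr3 : ¬ r ∣ 3 := fun h => by
      have := Nat.le_of_dvd (by norm_num) h
      omega
    have hr5 : ¬ r ∣ 5 := fun h => by
      have := Nat.le_of_dvd (by norm_num) h
      omega
    interval_cases k
    · exact (hrp.dvd_mul.1 (show r ∣ 3 * (4 * 5) from hd)).elim hr3 fun h =>
        (hrp.dvd_mul.1 h).elim (fun h => (hrp.dvd_mul.1 (show r ∣ 2 * 2 from h)).elim hr2 hr2) hr5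
    · exact hk3 rfl
    · exact (hrp.dvd_mul.1 (show r ∣ 3 * 16 from hd)).elim hr3 fun h => hr2 (hrp.dvd_of_dvd_pow (show r ∣ 2 ^ 4 from h))
    · exact hr2 (hrp.dvd_of_dvd_pow (show r ∣ 2 ^ 5 from hd))
    · exact hk6 rfl
  rw [hk3] at hkeq
  norm_num at hkeq
  -- a fixed element and the elements anticommuting with it
  haveI : Finite (fixR R t) := Nat.finite_of_card_ne_zero (by omega)
  obtain ⟨g, hg, hgns⟩ : ∃ g ∈ fixR R t, ∀ c : F, (g : Q4 F) ≠ c • 1 := by
    by_contra hcon
    push Not at hcon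
    choose c hc using fun g : fixR R t => hcon g g.2
    have h := Nat.card_le_card_of_injective
      (fun g : fixR R t => (⟨c g, by
        rcases D.root_of_mem ⟨g, (mem_fixR.1 g.2).1, hc g⟩ with e | e | e | e <;> simp [e]⟩ :
          ({1, -1, i, -i} : Finset F))) fun g h e =>
        Subtype.ext (Units.ext (by rw [hc, hc, show c g = c h from congrArg Subtype.val e]))
    rw [hkeq, Nat.card_eq_fintype_card, Fintype.card_coe] at h
    have := Finset.card_le_four (a := (1 : F)) (b := -1) (c := i) (d := -i)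
    omega
  obtain ⟨hgR, hgt⟩ := mem_fixR.1 hg
  obtain ⟨Y, ⟨h₀, hh₀, rfl⟩, hY⟩ := D.exists_anti ⟨g, hgR, rfl⟩ hgns
  have hanti0 : g * h₀ = -(h₀ * g) := Units.ext hY
  haveI : Fintype R := Fintype.ofFinite _
  set A := Finset.univ.filter fun h : R => g * (h : H4 F) ≠ (h : H4 F) * g with hA
  have hA32 : A.card = 32 := by
    have h1 : A.card = (Finset.univ.filter fun h : R => g * (h : H4 F) = (h : H4 F) * g).card := by
      refine Finset.card_equiv (Equiv.mulLeft (⟨h₀, hh₀⟩ : R)) fun h => ?_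
      simp only [hA, Finset.mem_filter, Finset.mem_univ, true_and, Equiv.coe_mulLeft, Subgroup.coe_mul]
      have hnn : ∀ x : H4 F, x ≠ -x := fun x e => one_ne_neg D.two (by
        have := congrArg (fun y : H4 F => ((x⁻¹ * y : H4 F) : Q4 F)) e
        simpa [mul_neg] using this)
      rw [← mul_assoc, hanti0, neg_mul, mul_assoc]
      rcases D.comm _ _ ⟨g, hgR, rfl⟩ ⟨(h : H4 F), h.2, rfl⟩ with e | e
      · replace e : g * (h : H4 F) = (h : H4 F) * g := Units.ext e
        simp only [e, ne_eq, not_true_eq_false, false_iff]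
        rw [mul_assoc]
        exact fun h' => hnn _ h'.symm
      · replace e : g * (h : H4 F) = -((h : H4 F) * g) := Units.ext e
        rw [e]
        simp only [mul_neg, neg_neg, mul_assoc, iff_true, ne_eq]
        exact fun h' => hnn _ h'.symm
    have h2 := Finset.card_filter_add_card_filter_not (s := (Finset.univ : Finset R))
      (fun h : R => g * (h : H4 F) = (h : H4 F) * g)
    rw [Finset.card_univ, ← Nat.card_eq_fintype_card, D.card] at h2
    change _ + A.card = 64 at h2
    omega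
  let σ : Function.End A := fun h => ⟨⟨t * (h.1 : H4 F) * t⁻¹, (Subgroup.mem_normalizer_iff.1 htN _).1 h.1.2⟩,
    Finset.mem_filter.2 ⟨Finset.mem_univ _, fun e => (Finset.mem_filter.1 h.2).2 (by
      have e' := congrArg (fun x => t⁻¹ * x * t) e
      have hgt' : t⁻¹ * g = g * t⁻¹ := by rw [inv_mul_eq_iff_eq_mul, ← mul_assoc, hgt, mul_inv_cancel_right]
      calc g * (h.1 : H4 F) = t⁻¹ * (g * (t * (h.1 : H4 F) * t⁻¹)) * t := by
            rw [show t⁻¹ * (g * (t * (h.1 : H4 F) * t⁻¹)) * t = t⁻¹ * g * t * (h.1 : H4 F) by group, hgt',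
              inv_mul_cancel_right]
        _ = t⁻¹ * (t * (h.1 : H4 F) * t⁻¹ * g) * t := by simpa using e'
        _ = (h.1 : H4 F) * (t⁻¹ * g * t) := by group
        _ = _ := by rw [hgt', inv_mul_cancel_right])⟩⟩
  have hσ : ∀ (n : ℕ) h, ((((σ ^ n) h : A) : R) : H4 F) = t ^ n * (h.1 : H4 F) * (t ^ n)⁻¹ := fun n => by
    induction n with
    | zero => intro h; rw [pow_zero, pow_zero, one_mul, inv_one, mul_one]; rfl
    | succ n ih =>
      intro h
      rw [pow_succ' σ, pow_succ' t, _root_.mul_inv_rev,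
        show t * t ^ n * (h.1 : H4 F) * ((t ^ n)⁻¹ * t⁻¹) = t * (t ^ n * h.1 * (t ^ n)⁻¹) * t⁻¹ by group, ← ih]
      rfl
  have h1 := Equiv.Perm.card_fixedPoints_modEq (f := σ) (p := r) (n := 1) (by
    rw [pow_one]
    funext h
    exact Subtype.ext (Subtype.ext (by rw [hσ, ht, one_mul, inv_one, mul_one]; rfl)))
  haveI : IsEmpty (Function.fixedPoints σ) := ⟨fun h => by
    have hf : t * (h.1.1 : H4 F) = (h.1.1 : H4 F) * t :=
      mul_inv_eq_iff_eq_mul.1 (congrArg (fun x : A => ((x : R) : H4 F)) h.2)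
    haveI : Fintype (fixR R t) := Fintype.ofFinite _
    -- the fixed subgroup consists of the scalars and their multiples of `g`
    obtain ⟨z, hzR, hz⟩ := D.imem
    have hzc : ∀ x : H4 F, z * x = x * z := fun x => Units.ext (by
      rw [Units.val_mul, Units.val_mul, hz, Matrix.mul_smul, Matrix.smul_mul, one_mul, mul_one])
    have hle : Subgroup.closure ({z, g} : Set (H4 F)) ≤ fixR R t := (Subgroup.closure_le _).2 (by
      rintro x (rfl | rfl)
      · exact mem_fixR.2 ⟨hzR, (hzc t).symm⟩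
      · exact hg)
    have hzz : ((z * z : H4 F) : Q4 F) = -1 := by
      rw [Units.val_mul, hz, Matrix.smul_mul, Matrix.mul_smul, mul_one, smul_smul, D.isq, neg_one_smul]
    have ho : orderOf z = 4 := by
      refine orderOf_eq_prime_pow (p := 2) (n := 1) (fun e => one_ne_neg D.two ?_) (Units.ext ?_)
      · rw [pow_one, _root_.sq] at e
        rw [e] at hzz
        exact hzz
      · rw [show 2 ^ (1 + 1) = 2 + 2 by norm_num, pow_add, _root_.sq, Units.val_mul, hzz, neg_mul_neg, one_mul]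
        rfl
    have hlt : Subgroup.zpowers z < Subgroup.closure ({z, g} : Set (H4 F)) := by
      refine lt_of_le_of_ne (Subgroup.zpowers_le.2 (Subgroup.subset_closure (Or.inl rfl))) fun e => ?_
      have hgz : g ∈ Subgroup.zpowers z := e ▸ Subgroup.subset_closure (Or.inr rfl)
      haveI : Finite (H4 F) := inferInstance
      obtain ⟨n, rfl⟩ := (mem_powers_iff_mem_zpowers (x := z) (y := g)).2 hgz
      exact hgns (i ^ n) (by simp [Units.val_pow_eq_pow_val, hz, smul_pow])
    haveI : Finite (Subgroup.closure ({z, g} : Set (H4 F))) := inferInstance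
    have hcard : Nat.card (Subgroup.closure ({z, g} : Set (H4 F))) = 8 := by
      have hd1 := Subgroup.card_dvd_of_le hle
      rw [hkeq] at hd1
      have hd2 := Subgroup.card_dvd_of_le hlt.le
      rw [Nat.card_zpowers, ho] at hd2
      have hne : Nat.card (Subgroup.closure ({z, g} : Set (H4 F))) ≠ 4 := fun e => hlt.ne
        (Subgroup.eq_of_le_of_card_ge hlt.le (by rw [Nat.card_zpowers, ho, e]))
      have := Nat.le_of_dvd (by norm_num) hd1
      obtain ⟨m, hm⟩ := hd2
      rw [hm] at hd1 hne this ⊢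
      have hm2 : m ≤ 2 := by omega
      interval_cases m <;> simp_all
    have heq : Subgroup.closure ({z, g} : Set (H4 F)) = fixR R t :=
      Subgroup.eq_of_le_of_card_ge hle (by rw [hkeq, hcard])
    have hcg : ∀ x ∈ fixR R t, g * x = x * g := fun x hx => by
      rw [← heq] at hx
      induction hx using Subgroup.closure_induction with
      | mem x hx =>
        rcases hx with rfl | rfl
        · exact (hzc g).symm
        · rfl
      | one => simp
      | mul x y _ _ hx hy => rw [← mul_assoc, hx, mul_assoc, hy, mul_assoc]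
      | inv x _ hx => exact (show Commute g x from hx).inv_right
    exact (Finset.mem_filter.1 h.1.2).2 (hcg _ (mem_fixR.2 ⟨h.1.1.2, hf⟩))⟩
  rw [Fintype.card_coe, hA32, Fintype.card_eq_zero] at h1
  have := hrp.dvd_of_dvd_pow (show r ∣ 2 ^ 5 from Nat.modEq_zero_iff_dvd.1 h1)
  have := Nat.le_of_dvd (by norm_num) this
  omega

end Cfsg.Agent.SympType4.Scal
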