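import Cfsg.Agent.SympType4.ScalBuild
import Cfsg.Agent.Lib.Classical.UnitaryConj
import Cfsg.Agent.Lib.Classical.UnitaryBasic
import Cfsg.Agent.Lib.Forms.Max.UnitaryBase

/-!
The unitary case of the symplectic type groups of order 64: adjoints, conjugacy inside the unitary group and
elements of the normalizer.
-/

set_option autoImplicit false

namespace Cfsg.Agent.SympType4.Scal

open Cfsg Matrix Module Cfsg.Agent.Forms
open Cfsg.Agent.Classical

variable {F : Type*} [Field F] [Fintype F] {p : ℕ} (hK : Fintype.card F = p ^ 2)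

/-- the adjoint -/
noncomputable def ad (X : Q4 F) : Q4 F := UnitaryConj.adj hK X

theorem ad_mul (X Y : Q4 F) : ad hK (X * Y) = ad hK Y * ad hK X := UnitaryConj.adj_mul hK X Y
theorem ad_one : ad hK (1 : Q4 F) = 1 := UnitaryConj.adj_one hK
theorem ad_add (X Y : Q4 F) : ad hK (X + Y) = ad hK X + ad hK Y := UnitaryConj.adj_add hK X Y
theorem ad_ad (X : Q4 F) : ad hK (ad hK X) = X := UnitaryConj.adj_adj hK X

theorem ad_apply (X : Q4 F) (k l : Fin 4) : ad hK X k l = X l k ^ p := rfl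

theorem ad_smul (c : F) (X : Q4 F) : ad hK (c • X) = c ^ p • ad hK X := by
  ext k l
  rw [ad_apply, Matrix.smul_apply, Matrix.smul_apply, ad_apply, smul_eq_mul, smul_eq_mul, mul_pow]

theorem ad_zero : ad hK (0 : Q4 F) = 0 := by
  have h := ad_add hK (0 : Q4 F) 0
  rw [add_zero] at h
  simpa using h

theorem ad_neg (X : Q4 F) : ad hK (-X) = -ad hK X := by
  have h := ad_add hK X (-X)
  rw [add_neg_cancel, ad_zero] at h
  exact eq_neg_of_add_eq_zero_right h.symm

theorem ad_sub (X Y : Q4 F) : ad hK (X - Y) = ad hK X - ad hK Y := by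
  rw [sub_eq_add_neg, ad_add, ad_neg, sub_eq_add_neg]

theorem ad_diagonal (v : Fin 4 → F) : ad hK (Matrix.diagonal v) = Matrix.diagonal fun k => v k ^ p := by
  ext k l
  rw [ad_apply]
  by_cases h : k = l
  · subst h; simp
  · have hp : p ≠ 0 := by have := HermStd.one_lt_q hK; omega
    simp [h, Ne.symm h, zero_pow hp]

theorem ad_trace (X : Q4 F) : Matrix.trace (ad hK X) = Matrix.trace X ^ p := by
  rw [← HermStd.qHom_apply hK]
  simp [Matrix.trace, ad_apply, map_sum, HermStd.qHom_apply]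

include hK in
theorem natCast_pow (n : ℕ) : (n : F) ^ p = n := by
  rw [← HermStd.qHom_apply hK, map_natCast]

theorem mem_GU {g : H4 F} : g ∈ Cfsg.GU 4 F p ↔ ad hK (g : Q4 F) * (g : Q4 F) = 1 := UnitaryConj.mem_GU_iff hK g

theorem ad_of_mem {g : H4 F} (hg : g ∈ Cfsg.GU 4 F p) : ad hK (g : Q4 F) = ((g⁻¹ : H4 F) : Q4 F) := by
  have h := (mem_GU hK).1 hg
  calc ad hK (g : Q4 F) = ad hK (g : Q4 F) * ((g : Q4 F) * ((g⁻¹ : H4 F) : Q4 F)) := by
        rw [← Units.val_mul, mul_inv_cancel, Units.val_one, mul_one]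
    _ = _ := by rw [← mul_assoc, h, one_mul]

theorem ad_of_sq {g : H4 F} (hg : g ∈ Cfsg.GU 4 F p) {e : Q4 F} (he : e = 1 ∨ e = -1)
    (h : (g : Q4 F) * (g : Q4 F) = e) : ad hK (g : Q4 F) = e * (g : Q4 F) := by
  have h1 := (mem_GU hK).1 hg
  have hee : e * e = 1 := by rcases he with rfl | rfl <;> simp
  have hce : (g : Q4 F) * e = e * (g : Q4 F) := by rcases he with rfl | rfl <;> simp
  calc ad hK (g : Q4 F) = ad hK (g : Q4 F) * ((g : Q4 F) * (g : Q4 F) * e) := by rw [h, hee, mul_one]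
    _ = (g : Q4 F) * e := by rw [mul_assoc (g : Q4 F), ← mul_assoc, h1, one_mul]
    _ = _ := hce

include hK in
/-- conjugacy in the general linear group gives conjugacy in the unitary group -/
theorem conj_GU {x y g : H4 F} (hx : x ∈ Cfsg.GU 4 F p) (hy : y ∈ Cfsg.GU 4 F p)
    (h : (x : Q4 F) * (g : Q4 F) = (g : Q4 F) * (y : Q4 F)) :
    ∃ g' ∈ Cfsg.GU 4 F p, (x : Q4 F) * (g' : Q4 F) = (g' : Q4 F) * (y : Q4 F) := by
  set H := ad hK (g : Q4 F) * (g : Q4 F) with hH
  have hHh : UnitaryConj.adj hK H = H := by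
    show ad hK H = H
    rw [hH, ad_mul, ad_ad]
  have hHy : (y : Q4 F) * H = H * (y : Q4 F) := by
    have h1 := congrArg (ad hK) h
    rw [ad_mul, ad_mul] at h1
    -- h1 : ad g * ad x = ad y * ad g
    have h2 : H = ad hK (y : Q4 F) * H * (y : Q4 F) := by
      calc H = ad hK (g : Q4 F) * (ad hK (x : Q4 F) * (x : Q4 F)) * (g : Q4 F) := by
            rw [(mem_GU hK).1 hx, mul_one]
        _ = (ad hK (g : Q4 F) * ad hK (x : Q4 F)) * ((x : Q4 F) * (g : Q4 F)) := by simp only [mul_assoc]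
        _ = (ad hK (y : Q4 F) * ad hK (g : Q4 F)) * ((g : Q4 F) * (y : Q4 F)) := by rw [h1, h]
        _ = _ := by rw [hH]; simp only [mul_assoc]
    conv_lhs => rw [h2]
    rw [← mul_assoc, ← mul_assoc, ad_of_mem hK hy, ← Units.val_mul, mul_inv_cancel, Units.val_one, one_mul]
  obtain ⟨Y, hY, hYY⟩ := UnitaryConj.exists_root hK H
    ((UnitaryConj.isUnit_adj hK g.isUnit).mul g.isUnit) hHh
  have hyY : (y : Q4 F) * (Y : Q4 F) = (Y : Q4 F) * (y : Q4 F) := (hY _ hHy).eq
  refine ⟨g * Y⁻¹, (mem_GU hK).2 ?_, ?_⟩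
  · rw [Units.val_mul, ad_mul, mul_assoc, ← mul_assoc (ad hK (g : Q4 F)), ← hH, ← hYY]
    show ad hK ((Y⁻¹ : H4 F) : Q4 F) * (ad hK (Y : Q4 F) * (Y : Q4 F) * ((Y⁻¹ : H4 F) : Q4 F)) = 1
    rw [mul_assoc (ad hK (Y : Q4 F)), ← Units.val_mul, mul_inv_cancel, Units.val_one, mul_one, ← ad_mul,
      ← Units.val_mul, mul_inv_cancel, Units.val_one, ad_one]
  · rw [Units.val_mul, ← mul_assoc, h, mul_assoc, mul_assoc]
    congr 1
    calc (y : Q4 F) * ((Y⁻¹ : H4 F) : Q4 F)
        = ((Y⁻¹ : H4 F) : Q4 F) * ((Y : Q4 F) * (y : Q4 F)) * ((Y⁻¹ : H4 F) : Q4 F) := by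
          rw [← mul_assoc ((Y⁻¹ : H4 F) : Q4 F) (Y : Q4 F), ← Units.val_mul Y⁻¹ Y, inv_mul_cancel, Units.val_one,
            one_mul]
      _ = _ := by
          rw [← hyY, ← mul_assoc, mul_assoc (((Y⁻¹ : H4 F) : Q4 F) * (y : Q4 F)),
            show (Y : Q4 F) * ((Y⁻¹ : H4 F) : Q4 F) = 1 from Y.mul_inv, mul_one]

include hK in
/-- conjugacy in the special unitary group -/
theorem conj_SU {x y : H4 F} (hx : x ∈ Cfsg.GU 4 F p) (hy : y ∈ Cfsg.GU 4 F p)
    (h : ∃ g : H4 F, (x : Q4 F) * (g : Q4 F) = (g : Q4 F) * (y : Q4 F))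
    (hc : ∀ δ : F, δ ^ (p + 1) = 1 →
      ∃ C : Q4 F, ad hK C * C = 1 ∧ C * (y : Q4 F) = (y : Q4 F) * C ∧ C.det = δ) :
    ∃ g ∈ Cfsg.GU 4 F p ⊓ Cfsg.Geo.specialLinear (Fin 4) F, (x : Q4 F) * (g : Q4 F) = (g : Q4 F) * (y : Q4 F) := by
  obtain ⟨g₀, h⟩ := h
  obtain ⟨g, hg, hgx⟩ := conj_GU hK hx hy h
  have hn : (g : Q4 F).det ^ (p + 1) = 1 := HermStd.det_norm hK _ (HermStd.mem_GU_iff.1 hg)
  have hd0 : (g : Q4 F).det ≠ 0 := ((Matrix.isUnit_iff_isUnit_det _).1 g.isUnit).ne_zero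
  obtain ⟨C, hC, hCy, hCd⟩ := hc (g : Q4 F).det⁻¹ (by rw [inv_pow, hn, inv_one])
  set c : H4 F := mkUnit C (ad hK C) (mul_eq_one_comm.1 hC) with hcdef
  refine ⟨g * c, ⟨(Cfsg.GU 4 F p).mul_mem hg ((mem_GU hK).2 hC), MonoidHom.mem_ker.2 (Units.ext ?_)⟩, ?_⟩
  · rw [map_mul, Units.val_mul]
    show (g : Q4 F).det * C.det = 1
    rw [hCd, mul_inv_cancel₀ hd0]
  · rw [Units.val_mul]
    show (x : Q4 F) * ((g : Q4 F) * C) = (g : Q4 F) * C * (y : Q4 F)
    rw [← mul_assoc, hgx, mul_assoc, mul_assoc, hCy]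

omit [Fintype F] in
/-- determinant along a projection of rank one -/
theorem det_one_add (h2 : (2 : F) ≠ 0) {P : Q4 F} (hP : P * P = P) (htr : Matrix.trace P = 1) (hne : P ≠ 1) (x : F) :
    (1 + x • P).det = 1 + x := by
  have hu : (1 - (2 : F) • P) * (1 - (2 : F) • P) = 1 := by
    simp only [sub_mul, mul_sub, one_mul, mul_one, Matrix.smul_mul, Matrix.mul_smul, hP, smul_smul]
    match_scalars <;> ring
  obtain ⟨m, hm, g, hg⟩ := exists_diag h2 hu
  set D : Fin 4 → F := fun k => if (k : ℕ) < m then 1 else -1 with hD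
  have hP' : P * (g : Q4 F) = (g : Q4 F) * Matrix.diagonal fun k => (1 - D k) / 2 := by
    have h1 : Matrix.diagonal (fun k => (1 - D k) / 2) = (2 : F)⁻¹ • (1 - Matrix.diagonal D) := by
      rw [← Matrix.diagonal_one, Matrix.diagonal_sub, ← Matrix.diagonal_smul]
      congr 1
      funext k
      simp [div_eq_inv_mul]
    rw [h1, Matrix.mul_smul, mul_sub, mul_one, ← hg, sub_mul, one_mul, Matrix.smul_mul, sub_sub_cancel,
      inv_smul_smul₀ h2]
  have hd : (g : Q4 F).det ≠ 0 := ((Matrix.isUnit_iff_isUnit_det _).1 g.isUnit).ne_zero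
  have hdet : (1 + x • P).det = (Matrix.diagonal fun k => 1 + x * ((1 - D k) / 2)).det := by
    have h1 : (1 + x • P) * (g : Q4 F) = (g : Q4 F) * Matrix.diagonal fun k => 1 + x * ((1 - D k) / 2) := by
      rw [add_mul, one_mul, Matrix.smul_mul, hP', ← Matrix.mul_smul, ← Matrix.diagonal_smul]
      conv_lhs => arg 1; rw [← mul_one (g : Q4 F), ← Matrix.diagonal_one]
      rw [← mul_add, Matrix.diagonal_add]
      rfl
    have := congrArg Matrix.det h1
    rw [Matrix.det_mul, Matrix.det_mul, mul_comm] at this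
    exact mul_left_cancel₀ hd this
  have htr' : (1 : F) = ∑ k, (1 - D k) / 2 := by
    refine htr.symm.trans ?_
    have h1 : P = (g : Q4 F) * Matrix.diagonal (fun k => (1 - D k) / 2) * ((g⁻¹ : H4 F) : Q4 F) := by
      rw [← hP', mul_assoc, ← Units.val_mul, mul_inv_cancel, Units.val_one, mul_one]
    rw [h1, Matrix.trace_units_conj, Matrix.trace_diagonal]
  rw [hdet, Matrix.det_diagonal, Fin.prod_univ_four]
  rw [Fin.sum_univ_four] at htr'
  interval_cases m
  · -- the projection would be the identity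
    refine absurd ?_ hne
    have h1 : P * (g : Q4 F) = 1 * (g : Q4 F) := by
      rw [hP', one_mul]
      conv_rhs => rw [← mul_one (g : Q4 F), ← Matrix.diagonal_one]
      congr 2
      funext k
      simp [hD]
      field_simp
      norm_num
    exact g.isUnit.mul_right_cancel h1
  all_goals simp [hD] at htr' ⊢
  all_goals field_simp at htr' ⊢
  all_goals
    first
      | ring1
      | (exfalso; exact h2 (by linear_combination htr'))
      | (exfalso; exact h2 (by linear_combination -htr'))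
      | (exfalso; exact quarter h2 (by linear_combination htr'))
      | (exfalso; exact quarter h2 (by linear_combination -htr'))

include hK in
theorem exists_hilbert {i : F} (hi0 : i ≠ 0) (hip : i ^ p = -i) {δ : F} (hδ : δ ^ (p + 1) = 1) :
    ∃ c : F, c ≠ 0 ∧ c = δ * c ^ p := by
  by_cases h : δ = -1
  · exact ⟨i, hi0, by rw [h, hip]; ring⟩
  · refine ⟨1 + δ, fun e => h (eq_neg_of_add_eq_zero_right e), ?_⟩
    rw [HermStd.add_pow_q hK, one_pow, mul_add, mul_one, ← pow_succ', hδ, add_comm]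

omit [Fintype F] in
/-- normal form of an element of order three with rational eigenvalues -/
theorem exists_diag3 (h3 : (3 : F) ≠ 0) {w : F} (hw : w * w + w + 1 = 0) {t : Q4 F} (ht : t * (t * t) = 1) :
    ∃ a b c : ℕ, a + b + c = 4 ∧ ∃ g : H4 F, t * (g : Q4 F) = (g : Q4 F) *
      Matrix.diagonal fun k : Fin 4 => if (k : ℕ) < a then 1 else if (k : ℕ) < a + b then w else w * w := by
  classical
  set f := Matrix.toLin' t
  have hfff : ∀ x, f (f (f x)) = x := fun x => by
    simp only [f, Matrix.toLin'_apply, Matrix.mulVec_mulVec, mul_assoc, ht, Matrix.one_mulVec]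
  have hw3 : w * w * w = 1 := by linear_combination (w - 1) * hw
  let W : F → Submodule F (Fin 4 → F) := fun l => LinearMap.ker (f - l • LinearMap.id)
  have hW : ∀ l x, x ∈ W l ↔ f x = l • x := fun l x => by simp [W, sub_eq_zero]
  let pr : F → ((Fin 4 → F) →ₗ[F] (Fin 4 → F)) := fun l =>
    (3 : F)⁻¹ • (LinearMap.id + (l * l) • f + l • (f ∘ₗ f))
  have hpr : ∀ l : F, l * l * l = 1 → ∀ x, pr l x ∈ W l := fun l hl x => by
    rw [hW]
    simp only [pr, LinearMap.smul_apply, LinearMap.add_apply, LinearMap.id_apply, LinearMap.comp_apply, map_smul,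
      map_add, hfff]
    match_scalars <;> first | ring1 | linear_combination (3 : F)⁻¹ * hl | linear_combination -(3 : F)⁻¹ * hl
  have hsum : ∀ x, pr 1 x + pr w x + pr (w * w) x = x := fun x => by
    simp only [pr, LinearMap.smul_apply, LinearMap.add_apply, LinearMap.id_apply, LinearMap.comp_apply]
    match_scalars
    · field_simp; ring
    all_goals
      field_simp
      first
        | linear_combination hw
        | linear_combination hw + w * hw3
  have hsel : ∀ l l' : F, l * l * l = 1 → l' * l' * l' = 1 → ∀ x ∈ W l',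
      pr l x = (if l = l' then (1 : F) else 0) • x := fun l l' hl hl' x hx => by
    rw [hW] at hx
    simp only [pr, LinearMap.smul_apply, LinearMap.add_apply, LinearMap.id_apply, LinearMap.comp_apply, hx, map_smul]
    split_ifs with e
    · subst e
      match_scalars
      field_simp
      linear_combination 2 * hl
    · match_scalars
      field_simp
      have hz : (l' - l) * (1 + l * l * l' + l * (l' * l')) = 0 := by linear_combination l * hl' - l' * hl
      have := (mul_eq_zero.1 hz).resolve_left (sub_ne_zero.2 (Ne.symm e))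
      linear_combination this
  have e1 : (1 : F) ≠ w := fun e => h3 (by rw [← e] at hw; linear_combination hw)
  have e2 : (1 : F) ≠ w * w := fun e => e1 (by linear_combination -hw3 + w * (-e))
  have e3 : w ≠ w * w := fun e => e1 (by linear_combination w * w * e - (1 - w) * hw3)
  have h1 : (1 : F) * 1 * 1 = 1 := by ring
  have h22 : w * w * (w * w) * (w * w) = 1 := by linear_combination (w * w * w + 1) * hw3
  let E : (Fin 4 → F) ≃ₗ[F] (W 1 × W w × W (w * w)) :=
    { toFun := fun x => (⟨pr 1 x, hpr 1 h1 x⟩, ⟨pr w x, hpr w hw3 x⟩, ⟨pr (w * w) x, hpr _ h22 x⟩)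
      map_add' := fun x y => by simp only [map_add]; rfl
      map_smul' := fun c x => by simp only [map_smul]; rfl
      invFun := fun y => (y.1 : Fin 4 → F) + y.2.1 + y.2.2
      left_inv := hsum
      right_inv := fun y => by
        obtain ⟨⟨u, hu⟩, ⟨v, hv⟩, ⟨z, hz⟩⟩ := y
        refine Prod.ext (Subtype.ext ?_) (Prod.ext (Subtype.ext ?_) (Subtype.ext ?_)) <;>
          simp only [map_add, hsel _ _ h1 h1 u hu, hsel _ _ h1 hw3 v hv, hsel _ _ h1 h22 z hz,
            hsel _ _ hw3 h1 u hu, hsel _ _ hw3 hw3 v hv, hsel _ _ hw3 h22 z hz,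
            hsel _ _ h22 h1 u hu, hsel _ _ h22 hw3 v hv, hsel _ _ h22 h22 z hz] <;>
          simp [e1, e2, e3, e1.symm, e2.symm, e3.symm] }
  have hdim : finrank F (W 1) + finrank F (W w) + finrank F (W (w * w)) = 4 := by
    have h := E.finrank_eq
    simp at h
    omega
  let e : Fin (finrank F (W 1)) ⊕ (Fin (finrank F (W w)) ⊕ Fin (finrank F (W (w * w)))) ≃ Fin 4 :=
    (Equiv.sumAssoc _ _ _).symm.trans
      ((Equiv.sumCongr finSumFinEquiv (Equiv.refl _)).trans (finSumFinEquiv.trans (finCongr hdim)))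
  let b := ((Module.finBasis F (W 1)).prod
    ((Module.finBasis F (W w)).prod (Module.finBasis F (W (w * w))))).map E.symm
  refine ⟨_, _, _, hdim, exists_conj_of_cols (v := fun k => b (e.symm k))
    (b.linearIndependent.comp _ e.symm.injective) fun k => ?_⟩
  rw [Finset.sum_eq_single k (fun l _ hl => by rw [Matrix.diagonal_apply_ne _ hl, zero_smul])
    (fun h => absurd (Finset.mem_univ _) h), Matrix.diagonal_apply_eq, ← Matrix.toLin'_apply]
  obtain ⟨j, rfl⟩ := e.surjective k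
  rw [Equiv.symm_apply_apply]
  refine (hW _ _).1 ?_
  rcases j with j | j | j
  · rw [if_pos (by simp [e])]
    simp [b, E]
  · rw [if_neg (by simp [e]), if_pos (by simp [e])]
    simp [b, E]
  · rw [if_neg (by simp [e]; omega), if_neg (by simp [e])]
    simp [b, E]

omit [Fintype F] in
/-- the classes of elements of order three are told apart by two traces -/
theorem conj_three [CharP F p] (hp5 : 5 ≤ p) {w : F} (hw : w * w + w + 1 = 0) {t y : H4 F}
    (ht : t ^ 3 = 1) (hy : y ^ 3 = 1) (h1 : Matrix.trace (t : Q4 F) = Matrix.trace (y : Q4 F))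
    (h2 : Matrix.trace ((t⁻¹ : H4 F) : Q4 F) = Matrix.trace ((y⁻¹ : H4 F) : Q4 F)) :
    ∃ g : H4 F, (t : Q4 F) * (g : Q4 F) = (g : Q4 F) * (y : Q4 F) := by
  have hcast : ∀ m n : ℕ, m < p → n < p → (m : F) = (n : F) → m = n := fun m n hm hn e =>
    ((CharP.natCast_eq_natCast F p).1 e).eq_of_lt_of_lt hm hn
  have h3 : (3 : F) ≠ 0 := fun h => absurd (hcast 3 0 (by omega) (by omega) (by exact_mod_cast h)) (by norm_num)
  have hw3 : w * w * w = 1 := by linear_combination (w - 1) * hw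
  have hcube : ∀ {s : H4 F}, s ^ 3 = 1 → (s : Q4 F) * ((s : Q4 F) * (s : Q4 F)) = 1 ∧
      ((s⁻¹ : H4 F) : Q4 F) = (s : Q4 F) * (s : Q4 F) := fun {s} hs => by
    rw [pow_three] at hs
    refine ⟨by rw [← Units.val_mul, ← Units.val_mul, hs]; rfl, ?_⟩
    rw [← Units.val_mul, inv_eq_of_mul_eq_one_right hs]
  obtain ⟨a, b, c, habc, g, hg⟩ := exists_diag3 h3 hw (hcube ht).1
  obtain ⟨a', b', c', habc', g', hg'⟩ := exists_diag3 h3 hw (hcube hy).1
  have htr : ∀ {s M : Q4 F} {g : H4 F}, s * (g : Q4 F) = (g : Q4 F) * M →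
      Matrix.trace s = Matrix.trace M ∧ Matrix.trace (s * s) = Matrix.trace (M * M) := fun {s M g} e => by
    have hgg : ((g⁻¹ : H4 F) : Q4 F) * (g : Q4 F) = 1 := by rw [← Units.val_mul, inv_mul_cancel]; rfl
    have e' : s = (g : Q4 F) * M * ((g⁻¹ : H4 F) : Q4 F) := by
      rw [← e, mul_assoc, ← Units.val_mul, mul_inv_cancel, Units.val_one, mul_one]
    refine ⟨by rw [e', Matrix.trace_units_conj], ?_⟩
    rw [e', show (g : Q4 F) * M * ((g⁻¹ : H4 F) : Q4 F) * ((g : Q4 F) * M * ((g⁻¹ : H4 F) : Q4 F)) =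
      (g : Q4 F) * (M * (((g⁻¹ : H4 F) : Q4 F) * (g : Q4 F)) * M) * ((g⁻¹ : H4 F) : Q4 F) by simp only [mul_assoc],
      hgg, mul_one, Matrix.trace_units_conj]
  obtain ⟨T1, T2⟩ := htr hg
  obtain ⟨T1', T2'⟩ := htr hg'
  rw [(hcube ht).2, (hcube hy).2, T2, T2'] at h2
  rw [T1, T1'] at h1
  rw [Matrix.trace_diagonal, Matrix.trace_diagonal] at h1
  rw [Matrix.diagonal_mul_diagonal, Matrix.diagonal_mul_diagonal, Matrix.trace_diagonal, Matrix.trace_diagonal] at h2
  have hsum : ∀ a b c : ℕ, a + b + c = 4 → ∀ x y z : F,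
      (∑ k : Fin 4, if (k : ℕ) < a then x else if (k : ℕ) < a + b then y else z) = a * x + b * y + c * z := by
    intro a b c h x y z
    obtain rfl : c = 4 - (a + b) := by omega
    have ha : a ≤ 4 := by omega
    have hb : b ≤ 4 - a := by omega
    interval_cases a <;> interval_cases b <;> simp [Fin.sum_univ_four] <;> ring
  have hsq : ∀ (a b : ℕ) (k : Fin 4), (if (k : ℕ) < a then (1 : F) else if (k : ℕ) < a + b then w else w * w) *
      (if (k : ℕ) < a then (1 : F) else if (k : ℕ) < a + b then w else w * w) =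
      if (k : ℕ) < a then (1 : F) else if (k : ℕ) < a + b then w * w else w := by
    intro a b k
    split_ifs
    · exact mul_one 1
    · rfl
    · linear_combination w * hw3
  simp only [hsq] at h2
  rw [hsum a b c habc, hsum a' b' c' habc'] at h1 h2
  have habcF : (a : F) + b + c = (a' : F) + b' + c' := by exact_mod_cast congrArg (Nat.cast (R := F)) (habc.trans habc'.symm)
  have ea : (a : F) = a' := by
    refine sub_eq_zero.1 ((mul_eq_zero.1 (show (3 : F) * ((a : F) - a') = 0 by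
      linear_combination h1 + h2 + habcF - ((b : F) + c - b' - c') * hw)).resolve_left h3)
  have eb : (b : F) = b' := by
    have hne : w - w * w ≠ 0 := fun e => by
      have h1w : (1 : F) = w := by linear_combination w * w * e - (1 - w) * hw3
      rw [← h1w] at hw
      exact h3 (by linear_combination hw)
    refine sub_eq_zero.1 ((mul_eq_zero.1 (show (w - w * w) * ((b : F) - b') = 0 by
      linear_combination h1 - ea - w * w * (habcF - ea))).resolve_left hne)
  have ha' := hcast a a' (by omega) (by omega) ea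
  have hb' := hcast b b' (by omega) (by omega) eb
  subst ha' hb'
  refine ⟨g * g'⁻¹, ?_⟩
  rw [Units.val_mul, ← mul_assoc, hg, mul_assoc, mul_assoc]
  congr 1
  have hl : ∀ Z : Q4 F, ((g'⁻¹ : H4 F) : Q4 F) * ((g' : Q4 F) * Z) = Z := fun Z => by
    rw [← mul_assoc, ← Units.val_mul, inv_mul_cancel, Units.val_one, one_mul]
  have hr : (g' : Q4 F) * ((g'⁻¹ : H4 F) : Q4 F) = 1 := g'.mul_inv
  calc _ = ((g'⁻¹ : H4 F) : Q4 F) * ((g' : Q4 F) * (Matrix.diagonal (fun k : Fin 4 =>
        if (k : ℕ) < a then 1 else if (k : ℕ) < a + b then w else w * w) * ((g'⁻¹ : H4 F) : Q4 F))) := (hl _).symm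
    _ = _ := by rw [← mul_assoc (g' : Q4 F), ← hg', mul_assoc (y : Q4 F), hr, mul_one]

variable {R : Subgroup (H4 F)} {i : F} {a : Fin 4 → Q4 F}

theorem Mem.ad_sq (hRU : R ≤ Cfsg.GU 4 F p) {X : Q4 F} (hX : Mem R X) {e : Q4 F} (he : e = 1 ∨ e = -1)
    (h : X * X = e) : ad hK X = e * X := by
  obtain ⟨g, hg, rfl⟩ := hX
  exact ad_of_sq hK (hRU hg) he h

theorem Mem.ad_self (hRU : R ≤ Cfsg.GU 4 F p) {X : Q4 F} (hX : Mem R X) (h : X * X = 1) : ad hK X = X := by
  rw [hX.ad_sq hK hRU (Or.inl rfl) h, one_mul]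

theorem Mem.ad_skew (hRU : R ≤ Cfsg.GU 4 F p) {X : Q4 F} (hX : Mem R X) (h : X * X = -1) : ad hK X = -X := by
  rw [hX.ad_sq hK hRU (Or.inr rfl) h, neg_one_mul]

include hK in
theorem half_pow : ((2 : F)⁻¹) ^ p = (2 : F)⁻¹ := by
  rw [inv_pow, show (2 : F) = ((2 : ℕ) : F) by norm_num, natCast_pow hK]

include hK in
theorem Wop_GU (D : Data R i) (hG : Gens R a) (hRU : R ≤ Cfsg.GU 4 F p) {w : H4 F}
    (hw : (w : Q4 F) = Wop (a 0) (a 2)) : w ∈ Cfsg.GU 4 F p := by
  refine (mem_GU hK).2 ?_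
  have h : ad hK (w : Q4 F) = (w : Q4 F) := by
    rw [hw, Wop, ad_smul, half_pow hK, ad_sub, ad_add, ad_add, ad_one, ad_mul,
      (hG.mem 0).ad_self hK hRU (hG.sq 0), (hG.mem 2).ad_self hK hRU (hG.sq 2), ← hG.com.1]
  rw [h, hw]
  exact Wop_sq D.two (hG.sq 0) (hG.sq 2) hG.com.1

include hK in
theorem Aop_GU (D : Data R i) (hG : Gens R a) (hRU : R ≤ Cfsg.GU 4 F p) {j k : Fin 4}
    (hjk : a j * a k = -(a k * a j)) {A : H4 F} (hA : (A : Q4 F) = Aop (a j * a k) (i • a j)) :
    A ∈ Cfsg.GU 4 F p := by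
  have hQ := quat_of_pair (i := i) D.isq (hG.sq j) (hG.sq k) hjk
  have hI : Mem R (a j * a k) := (hG.mem j).mul (hG.mem k)
  have hJ : Mem R (i • a j) := D.smul_mem (Or.inr (Or.inr (Or.inl rfl))) (hG.mem j)
  set I := a j * a k
  set J := i • a j
  refine (mem_GU hK).2 ?_
  have hIJ : I * J * (I * J) = -1 := by
    rw [mul_assoc, ← mul_assoc J I J, hQ.ji, neg_mul, mul_assoc I J J, hQ.jj]
    simp [hQ.ii]
  have h : ad hK (A : Q4 F) = Aop' I J := by
    rw [hA, Aop, Aop', Sop, ad_smul, half_pow hK, ad_add, ad_neg, ad_one, ad_add, ad_add, hI.ad_skew hK hRU hQ.ii,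
      hJ.ad_skew hK hRU hQ.jj, (hI.mul hJ).ad_skew hK hRU hIJ]
    congr 1
    abel
  rw [h, hA]
  exact mul_eq_one_comm.1 (hQ.mul_inv D.two)

include hK in
theorem five_GU (D : Data R i) (hG : Gens R a) (hRU : R ≤ Cfsg.GU 4 F p)
    (hno : ∀ c : F, c ^ 5 = 1 → c = 1) {t : H4 F} {l : F} (ht : (t : Q4 F) = l • Gens.Pop (Gens.five a i))
    (ht5 : t ^ 5 = 1) : t ∈ Cfsg.GU 4 F p := by
  obtain ⟨hmem, hsq, hanti⟩ := hG.five_rules D
  set e := Gens.five a i
  have he : ∀ k, ad hK (e k) = e k := fun k => (hmem k).ad_self hK hRU (hsq k)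
  have hs2 : ∀ k l, k ≠ l → (e k - e l) * (e k - e l) = (2 : F) • (1 : Q4 F) := fun k l h => by
    simp only [sub_mul, mul_sub, hsq, hanti k l h]
    rw [two_smul]; abel
  have hP : ad hK (Gens.Pop e) = Gens.Pop' e := by
    simp only [Gens.Pop, Gens.Pop', ad_mul, ad_sub, he, mul_assoc]
  have hkey : ∀ s u v z : Q4 F, z * z = (2 : F) • (1 : Q4 F) → v * v = (2 : F) • (1 : Q4 F) →
      u * u = (2 : F) • (1 : Q4 F) → s * s = (2 : F) • (1 : Q4 F) →
      s * u * v * z * (z * v * u * s) = (16 : F) • (1 : Q4 F) := fun s u v z hz hv hu hs => by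
    rw [show s * u * v * z * (z * v * u * s) = s * (u * (v * (z * z) * v) * u) * s by simp only [mul_assoc], hz]
    simp only [Matrix.mul_smul, Matrix.smul_mul, mul_one, hv, hu, hs, smul_smul]
    norm_num
  have hPP : Gens.Pop' e * Gens.Pop e = (16 : F) • 1 :=
    hkey _ _ _ _ (hs2 0 1 (by decide)) (hs2 1 2 (by decide)) (hs2 2 3 (by decide)) (hs2 3 4 (by decide))
  have hPP' : Gens.Pop e * Gens.Pop' e = (16 : F) • 1 :=
    hkey _ _ _ _ (hs2 3 4 (by decide)) (hs2 2 3 (by decide)) (hs2 1 2 (by decide)) (hs2 0 1 (by decide))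
  set ν := l ^ p * (l * 16) with hν
  have h1 : ad hK (t : Q4 F) * (t : Q4 F) = ν • 1 := by
    rw [ht, ad_smul, hP, Matrix.smul_mul, Matrix.mul_smul, hPP, smul_smul, smul_smul]
    congr 1
    rw [hν]; ring
  have hc : Commute (ad hK (t : Q4 F)) (t : Q4 F) := by
    show ad hK (t : Q4 F) * (t : Q4 F) = (t : Q4 F) * ad hK (t : Q4 F)
    rw [ht, ad_smul, hP, Matrix.smul_mul, Matrix.mul_smul, hPP, Matrix.smul_mul, Matrix.mul_smul, hPP', smul_smul,
      smul_smul, smul_smul, smul_smul]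
    congr 1
    ring
  have h5 : (t : Q4 F) ^ 5 = 1 := by rw [← Units.val_pow_eq_pow_val, ht5]; rfl
  have h5' : ad hK (t : Q4 F) ^ 5 = 1 := by
    have := congrArg (ad hK) h5
    simp only [pow_succ, pow_zero, one_mul, ad_mul, ad_one] at this ⊢
    simpa [mul_assoc] using this
  have h := congrArg (· ^ 5) h1
  simp only [hc.mul_pow, h5, h5', mul_one, smul_pow, one_pow] at h
  exact (mem_GU hK).2 (by rw [h1, hno ν (smul_one_inj ((one_smul F (1 : Q4 F)).trans h)).symm, one_smul])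

end Cfsg.Agent.SympType4.Scal
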