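import Cfsg.Agent.SympType4.Basic

/-!
The monomials in five anticommuting involutions, the normalizer and its action on them.
-/

set_option autoImplicit false

namespace Cfsg.Agent.SympType4

open Cfsg Matrix Module

variable {F : Type*} [Field F] {R : Subgroup (G4 F)}

/-- the index set of the monomials -/
abbrev Mon := Option (Fin 5 × Fin 3)

/-- the monomial -/
def mono (e : Fin 5 → G4 F) : Mon → G4 F
  | none => 1
  | some (i, k) => if k = 0 then e i else if k = 1 then e i * e (i + 1) else e i * e (i + 2)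

/-- which generators commute with a monomial -/
def pat : Mon → Fin 5 → Bool
  | none, _ => true
  | some (i, k), n => if k = 0 then n == i else if k = 1 then !(n == i || n == i + 1) else !(n == i || n == i + 2)

theorem pat_inj : ∀ o o' : Mon, (∀ n, pat o n = pat o' n) → o = o' := by decide

theorem comm_pair {g a b : G4 F} {sa sb : Bool} (ha : g * a = bif sa then a * g else -(a * g))
    (hb : g * b = bif sb then b * g else -(b * g)) :
    g * (a * b) = bif (sa == sb) then a * b * g else -(a * b * g) := by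
  cases sa <;> cases sb <;> simp at ha hb ⊢
  all_goals (rw [← mul_assoc, ha]; simp [neg_mul, mul_assoc, hb, mul_neg])

theorem pat_pair : ∀ n i : Fin 5, ((n == i) == (n == i + 1)) = pat (some (i, 1)) n ∧
    ((n == i) == (n == i + 2)) = pat (some (i, 2)) n := by decide

namespace Fam

variable {e : Fin 5 → G4 F}

theorem mono_mem (hF : Fam R e) : ∀ o, mono e o ∈ R
  | none => R.one_mem
  | some (i, k) => by
    simp only [mono]
    split_ifs
    · exact hF.mem i
    · exact R.mul_mem (hF.mem _) (hF.mem _)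
    · exact R.mul_mem (hF.mem _) (hF.mem _)

theorem comm_gen (hF : Fam R e) (n i : Fin 5) :
    e n * e i = bif n == i then e i * e n else -(e i * e n) := by
  by_cases h : n = i
  · subst h; simp
  · have := hF.anti n i h
    rw [beq_false_of_ne h]
    exact this

theorem comm_mono (hF : Fam R e) (n : Fin 5) : ∀ o, e n * mono e o =
    bif pat o n then mono e o * e n else -(mono e o * e n)
  | none => by simp [mono, pat]
  | some (i, k) => by
    fin_cases k
    · simpa [mono, pat] using hF.comm_gen n i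
    · have h := comm_pair (hF.comm_gen n i) (hF.comm_gen n (i + 1))
      rw [(pat_pair n i).1] at h
      simpa [mono] using h
    · have h := comm_pair (hF.comm_gen n i) (hF.comm_gen n (i + 2))
      rw [(pat_pair n i).2] at h
      simpa [mono] using h

theorem pat_eq (hF : Fam R e) (h2 : (2 : F) ≠ 0) {o o' : Mon} (h : Sim (mono e o) (mono e o')) (n : Fin 5) :
    pat o n = pat o' n := by
  have h1 := hF.comm_mono n o
  have h1' := hF.comm_mono n o'
  rcases h with h | h <;> rw [h] at h1 <;> cases hp : pat o n <;> cases hp' : pat o' n <;>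
    simp [hp, hp', mul_neg, neg_mul, neg_inj] at h1 h1' ⊢
  all_goals first
    | exact one_ne_neg h2 _ (h1'.symm.trans h1)
    | exact one_ne_neg h2 _ (h1.symm.trans h1')
    | exact one_ne_neg h2 _ (h1'.trans h1.symm)
    | exact one_ne_neg h2 _ (h1.trans h1'.symm)

theorem mono_inj (hF : Fam R e) (h2 : (2 : F) ≠ 0) {o o' : Mon} (h : Sim (mono e o) (mono e o')) : o = o' :=
  pat_inj o o' (hF.pat_eq h2 h)

theorem not_sim_one (hF : Fam R e) (h2 : (2 : F) ≠ 0) (i : Fin 5) : ¬ Sim (e i) 1 := fun h => by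
  have := hF.mono_inj h2 (o := some (i, 0)) (o' := none) (by simpa [mono] using h)
  simp at this

theorem inj (hF : Fam R e) (h2 : (2 : F) ≠ 0) {i j : Fin 5} (h : Sim (e i) (e j)) : i = j := by
  have := hF.mono_inj h2 (o := some (i, 0)) (o' := some (j, 0)) (by simpa [mono] using h)
  simpa using this

theorem cover (hF : Fam R e) (D : Data R) {g : G4 F} (hg : g ∈ R) : ∃ o, Sim g (mono e o) := by
  classical
  haveI : Finite R := Nat.finite_of_card_ne_zero (by rw [D.card]; norm_num)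
  let f : Bool × Mon → R := fun p => if p.1 then ⟨_, D.neg' (hF.mono_mem p.2)⟩ else ⟨_, hF.mono_mem p.2⟩
  have hf : Function.Injective f := by
    rintro ⟨s, a⟩ ⟨s', b⟩ h
    have h' := congrArg (fun x : R => (x : G4 F)) h
    have hab : a = b := hF.mono_inj D.two (by
      cases s <;> cases s' <;> simp [f] at h'
      · exact Or.inl h'
      · exact Or.inr h'
      · exact Or.inr (neg_eq_iff_eq_neg.1 h')
      · exact Or.inl h')
    subst hab
    cases s <;> cases s'
    · rfl
    · exact absurd h' (by simpa [f] using one_ne_neg D.two (mono e a))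
    · exact absurd h'.symm (by simpa [f] using one_ne_neg D.two (mono e a))
    · rfl
  obtain ⟨⟨s, o⟩, hso⟩ := ((Nat.bijective_iff_injective_and_card f).2 ⟨hf, by simp [D.card]⟩).2 ⟨g, hg⟩
  have h' := congrArg (fun x : R => (x : G4 F)) hso
  refine ⟨o, ?_⟩
  cases s <;> simp [f] at h'
  · exact Or.inl h'.symm
  · exact Or.inr h'.symm

theorem eq_gen (hF : Fam R e) (D : Data R) {g : G4 F} (hg : g ∈ R) (hsq : g * g = 1) (h1 : ¬ Sim g 1) :
    ∃ i, Sim g (e i) := by
  obtain ⟨o, ho⟩ := hF.cover D hg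
  rcases o with _ | ⟨i, k⟩
  · exact absurd ho h1
  have hbad : ∀ l, i ≠ l → e i * e l * (e i * e l) = -1 := fun l hl => by
    rw [mul_assoc, ← mul_assoc (e l) (e i) (e l), hF.anti l i hl.symm, neg_mul, mul_neg, mul_assoc (e i) (e l) (e l),
      hF.sq, mul_one, hF.sq]
  have hne : ∀ l, i ≠ l → ¬ Sim g (e i * e l) := fun l hl h => by
    rcases h with rfl | rfl
    · exact one_ne_neg D.two 1 (hsq.symm.trans (hbad l hl))
    · rw [neg_mul_neg] at hsq
      exact one_ne_neg D.two 1 (hsq.symm.trans (hbad l hl))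
  have h12 : ∀ i : Fin 5, i ≠ i + 1 ∧ i ≠ i + 2 := by decide
  fin_cases k
  · exact ⟨i, by simpa [mono] using ho⟩
  · exact absurd (by simpa [mono] using ho) (hne (i + 1) (h12 i).1)
  · exact absurd (by simpa [mono] using ho) (hne (i + 2) (h12 i).2)

theorem indep (hF : Fam R e) (D : Data R) : LinearIndependent F fun o => (mono e o : M4 F) :=
  D.indep _ hF.mono_mem fun _ _ h => hF.mono_inj D.two h

theorem exists_coeff (hF : Fam R e) (D : Data R) (X : M4 F) :
    ∃ c : Mon → F, X = ∑ o, c o • (mono e o : M4 F) := by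
  have htop : (⊤ : Submodule F (M4 F)) = Submodule.span F (Set.range fun o => (mono e o : M4 F)) :=
    ((hF.indep D).span_eq_top_of_card_eq_finrank (by simp [Module.finrank_matrix])).symm
  obtain ⟨c, hc⟩ := (Submodule.mem_span_range_iff_exists_fun F).1 (htop ▸ Submodule.mem_top (x := X))
  exact ⟨c, hc.symm⟩

theorem scalar_of_comm (hF : Fam R e) (D : Data R) {X : M4 F} (h : ∀ i, X * (e i : M4 F) = (e i : M4 F) * X) :
    ∃ c : F, X = c • (1 : M4 F) := by
  refine D.scal X fun g hg => ?_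
  obtain ⟨o, ho⟩ := hF.cover D hg
  have hm : X * (mono e o : M4 F) = (mono e o : M4 F) * X := by
    rcases o with _ | ⟨i, k⟩
    · simp [mono]
    · fin_cases k
      · simpa [mono] using h i
      · simp only [mono, Units.val_mul, Fin.reduceFinMk, Fin.isValue, one_ne_zero, ↓reduceIte]
        rw [← mul_assoc, h, mul_assoc, h, mul_assoc]
      · simp only [mono, Units.val_mul, Fin.reduceFinMk, Fin.isValue, Fin.reduceEq, ↓reduceIte]
        rw [← mul_assoc, h, mul_assoc, h, mul_assoc]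
  rcases ho with rfl | rfl
  · exact hm
  · rw [Units.val_neg, mul_neg, neg_mul, hm]

theorem normalizes (hF : Fam R e) (D : Data R) {g : G4 F} (h : ∀ i, g * e i * g⁻¹ ∈ R) :
    g ∈ Cfsg.Geo.subgroupNormalizer R := by
  haveI : Finite R := Nat.finite_of_card_ne_zero (by rw [D.card]; norm_num)
  haveI : Finite ((R : Subgroup (G4 F)) : Set (G4 F)) := ‹Finite R›
  refine Subgroup.mem_normalizer_fintype fun n hn => ?_
  obtain ⟨o, ho⟩ := hF.cover D hn
  have hm : g * mono e o * g⁻¹ ∈ R := by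
    rcases o with _ | ⟨i, k⟩
    · simp [mono, R.one_mem]
    · simp only [mono]
      split_ifs
      · exact h i
      · rw [show g * (e i * e (i + 1)) * g⁻¹ = g * e i * g⁻¹ * (g * e (i + 1) * g⁻¹) by group]
        exact R.mul_mem (h _) (h _)
      · rw [show g * (e i * e (i + 2)) * g⁻¹ = g * e i * g⁻¹ * (g * e (i + 2) * g⁻¹) by group]
        exact R.mul_mem (h _) (h _)
  rcases ho with rfl | rfl
  · exact hm
  · rw [mul_neg, neg_mul]
    exact D.neg' hm

/-- an element of order five permuting five involutions in a cycle -/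
theorem exists_five [Finite F] (hF : Fam R e) (D : Data R) :
    ∃ y ∈ Cfsg.spGL 2 F, y ∈ Cfsg.Geo.subgroupNormalizer R ∧ y ^ 5 = 1 ∧ y ≠ 1 := by
  let s : Fin 5 → Fin 5 → M4 F := fun i j => (e i : M4 F) - (e j : M4 F)
  have hsqM : ∀ i, (e i : M4 F) * (e i : M4 F) = 1 := fun i => by rw [← Units.val_mul, hF.sq]; rfl
  have hanti : ∀ i j, i ≠ j → (e i : M4 F) * (e j : M4 F) = -((e j : M4 F) * (e i : M4 F)) := fun i j h => by
    rw [← Units.val_mul, hF.anti i j h, Units.val_neg, Units.val_mul]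
  have hs2 : ∀ i j, i ≠ j → s i j * s i j = (2 : F) • (1 : M4 F) := fun i j h => by
    simp only [s, sub_mul, mul_sub, hsqM, hanti i j h]
    rw [two_smul]; abel
  have hstep : ∀ i j k, i ≠ j → s i j * (e k : M4 F) = -((e (Equiv.swap i j k) : M4 F) * s i j) := by
    intro i j k h
    simp only [s, sub_mul, mul_sub]
    rcases eq_or_ne k i with rfl | hki
    · rw [Equiv.swap_apply_left, hsqM, hsqM, hanti j k (Ne.symm h)]
      abel
    rcases eq_or_ne k j with rfl | hkj
    · rw [Equiv.swap_apply_right, hsqM, hsqM, hanti i k h]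
      abel
    · rw [Equiv.swap_apply_of_ne_of_ne hki hkj, hanti i k (Ne.symm hki), hanti j k (Ne.symm hkj)]
      abel
  set P := s 0 1 * s 1 2 * s 2 3 * s 3 4 with hP
  set P' := s 3 4 * s 2 3 * s 1 2 * s 0 1 with hP'
  have h16 : ∀ {a b c d : M4 F}, a * a = (2 : F) • 1 → b * b = (2 : F) • 1 → c * c = (2 : F) • 1 →
      d * d = (2 : F) • 1 → a * b * c * d * (d * c * b * a) = (16 : F) • 1 := by
    intro a b c d ha hb hc hd
    calc a * b * c * d * (d * c * b * a) = a * (b * (c * (d * d) * c) * b) * a := by simp only [mul_assoc]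
      _ = _ := by
        rw [hd]
        simp only [Matrix.mul_smul, Matrix.smul_mul, mul_one, hc, smul_smul, hb, ha]
        norm_num
  have hPP : P * P' = (16 : F) • 1 :=
    h16 (hs2 _ _ (by decide)) (hs2 _ _ (by decide)) (hs2 _ _ (by decide)) (hs2 _ _ (by decide))
  have hPP' : P' * P = (16 : F) • 1 :=
    h16 (hs2 _ _ (by decide)) (hs2 _ _ (by decide)) (hs2 _ _ (by decide)) (hs2 _ _ (by decide))
  have hPe : ∀ k : Fin 5, P * (e k : M4 F) = (e (k + 1) : M4 F) * P := by
    intro k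
    have hσ : ∀ k : Fin 5,
        Equiv.swap (0 : Fin 5) 1 (Equiv.swap 1 2 (Equiv.swap 2 3 (Equiv.swap 3 4 k))) = k + 1 := by decide
    rw [← hσ k, hP, mul_assoc _ (s 3 4), hstep 3 4 k (by decide), mul_neg, ← mul_assoc,
      mul_assoc _ (s 2 3), hstep 2 3 _ (by decide)]
    simp only [mul_neg, neg_mul, neg_neg, ← mul_assoc]
    rw [mul_assoc (s 0 1) (s 1 2), hstep 1 2 _ (by decide)]
    simp only [mul_neg, neg_mul, ← mul_assoc]
    rw [hstep 0 1 _ (by decide)]
    simp only [neg_mul, neg_neg]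
  have h4 : (4 : F) * (4 : F) = 16 := by norm_num
  have h40 : (4 : F) ≠ 0 := four_ne D.two
  let y : G4 F := ⟨(4 : F)⁻¹ • P, (4 : F)⁻¹ • P',
    by rw [Matrix.smul_mul, Matrix.mul_smul, hPP, smul_smul, smul_smul, ← h4,
      show (4 : F)⁻¹ * (4 : F)⁻¹ * (4 * 4) = 1 by field_simp, one_smul],
    by rw [Matrix.smul_mul, Matrix.mul_smul, hPP', smul_smul, smul_smul, ← h4,
      show (4 : F)⁻¹ * (4 : F)⁻¹ * (4 * 4) = 1 by field_simp, one_smul]⟩
  have hye : ∀ k, y * e k * y⁻¹ = e (k + 1) := fun k => by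
    rw [mul_inv_eq_iff_eq_mul]
    refine Units.ext ?_
    rw [Units.val_mul, Units.val_mul]
    show ((4 : F)⁻¹ • P) * _ = _ * ((4 : F)⁻¹ • P)
    rw [Matrix.smul_mul, Matrix.mul_smul, hPe]
  have hadj : ∀ i, (e i : M4 F) ∈ adj (1 : F) := fun i =>
    mem_adj_of_sq (D.le_sp (hF.mem i)) (one_mul 1) (by rw [hF.sq, one_smul]; rfl)
  have hsadj : ∀ i j u v, Forms.SympStd.sympB 2 F (s i j *ᵥ u) v = Forms.SympStd.sympB 2 F u (s i j *ᵥ v) :=
    fun i j u v => by
      have := (Submodule.sub_mem _ (hadj i) (hadj j)) u v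
      rwa [one_mul] at this
  have hy : y ∈ Cfsg.spGL 2 F := fun u v => by
    show Cfsg.sympForm 2 F (((4 : F)⁻¹ • P) *ᵥ u) (((4 : F)⁻¹ • P) *ᵥ v) = _
    rw [← Forms.SympStd.sympB_apply, ← Forms.SympStd.sympB_apply, Matrix.smul_mulVec, Matrix.smul_mulVec, map_smul,
      map_smul, LinearMap.smul_apply, hP, ← Matrix.mulVec_mulVec, ← Matrix.mulVec_mulVec, ← Matrix.mulVec_mulVec,
      hsadj, hsadj, hsadj, hsadj]
    simp only [Matrix.mulVec_mulVec]
    rw [show s 3 4 * (s 2 3 * (s 1 2 * (s 0 1 * (s 0 1 * s 1 2 * s 2 3 * s 3 4)))) = P' * P by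
      simp only [hP, hP', mul_assoc], hPP', Matrix.smul_mulVec, Matrix.one_mulVec, map_smul, smul_eq_mul, smul_eq_mul,
      smul_eq_mul, ← h4]
    field_simp
  have hyN : y ∈ Cfsg.Geo.subgroupNormalizer R := hF.normalizes D fun i => by rw [hye]; exact hF.mem _
  have h5 : ∀ i, y ^ 5 * e i * (y ^ 5)⁻¹ = e i := fun i => by
    have h : ∀ n : ℕ, y ^ n * e i * (y ^ n)⁻¹ = e ((fun x : Fin 5 => x + 1)^[n] i) := by
      intro n
      induction n with
      | zero => simp
      | succ n ih =>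
        rw [pow_succ', _root_.mul_inv_rev, show y * y ^ n * e i * ((y ^ n)⁻¹ * y⁻¹) =
          y * (y ^ n * e i * (y ^ n)⁻¹) * y⁻¹ by group, ih, hye, Function.iterate_succ_apply']
    have hit : ∀ i : Fin 5, (fun x : Fin 5 => x + 1)^[5] i = i := by decide
    rw [h, hit]
  obtain ⟨c, hc⟩ := hF.scalar_of_comm D (X := ((y ^ 5 : G4 F) : M4 F)) fun i => by
    rw [← Units.val_mul, ← Units.val_mul, mul_inv_eq_iff_eq_mul.1 (h5 i)]
  have hne : ∀ g : G4 F, (g = y ∨ g = -y) → g ≠ 1 := fun g hg h => by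
    have h1 := hye 0
    have hy1 : Sim y 1 := by
      rcases hg with rfl | rfl
      · exact Or.inl h
      · exact Or.inr (neg_eq_iff_eq_neg.1 h)
    rcases hy1 with hy1 | hy1 <;> rw [hy1] at h1 <;> simp at h1 <;>
      exact absurd (hF.inj D.two (Or.inl h1)) (by decide)
  rcases scalar_sp (Subgroup.pow_mem _ hy 5) hc with hc' | hc'
  · exact ⟨y, hy, hyN, hc', hne y (Or.inl rfl)⟩
  · refine ⟨-y, ?_, ?_, ?_, hne _ (Or.inr rfl)⟩
    · rw [← neg_one_mul]
      exact Subgroup.mul_mem _ neg_mem_sp hy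
    · rw [← neg_one_mul]
      exact Subgroup.mul_mem _ (Subgroup.le_normalizer D.neg_mem) hyN
    · rw [Odd.neg_pow (by decide), hc', neg_neg]

end Fam

theorem odd_fix {t g : G4 F} {r : ℕ} (hr : Odd r) (ht : t ^ r = 1) (h2 : (2 : F) ≠ 0)
    (h : Sim (t * g * t⁻¹) g) : t * g * t⁻¹ = g := by
  refine h.resolve_right fun e => ?_
  have hn : ∀ n : ℕ, t ^ n * g * (t ^ n)⁻¹ = if Even n then g else -g := by
    intro n
    induction n with
    | zero => simp
    | succ n ih =>
      rw [pow_succ', _root_.mul_inv_rev, show t * t ^ n * g * ((t ^ n)⁻¹ * t⁻¹) =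
        t * (t ^ n * g * (t ^ n)⁻¹) * t⁻¹ by group, ih]
      rcases Nat.even_or_odd n with hn | hn
      · rw [if_pos hn, if_neg (Nat.not_even_iff_odd.2 hn.add_one), e]
      · rw [if_neg (Nat.not_even_iff_odd.2 hn), if_pos hn.add_one, mul_neg, neg_mul, e, neg_neg]
  have h1 := hn r
  rw [ht, if_neg (Nat.not_even_iff_odd.2 hr)] at h1
  simp at h1
  exact one_ne_neg h2 g h1

theorem Fam.exists_perm {e : Fin 5 → G4 F} (hF : Fam R e) (D : Data R) {t : G4 F} {r : ℕ} [hr : Fact r.Prime]
    (hodd : Odd r) (htN : t ∈ Cfsg.Geo.subgroupNormalizer R) (ht : t ^ r = 1) (ht1 : t ≠ 1)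
    (htS : t ∈ Cfsg.spGL 2 F) :
    ∃ σ : Equiv.Perm (Fin 5), orderOf σ = r ∧ ∀ i, Sim (t * e i * t⁻¹) (e (σ i)) := by
  have hex : ∀ i, ∃ j, Sim (t * e i * t⁻¹) (e j) := fun i =>
    hF.eq_gen D (Subgroup.mem_normalizer_iff.1 htN (e i) |>.1 (hF.mem i)) (by
      rw [show t * e i * t⁻¹ * (t * e i * t⁻¹) = t * (e i * e i) * t⁻¹ by group, hF.sq, mul_one, mul_inv_cancel])
      fun h => hF.not_sim_one D.two i (by
        have := h.conj t⁻¹
        simpa [mul_assoc] using this)
  choose f hf using hex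
  have hinj : Function.Injective f := fun i j h => hF.inj D.two (by
    have := ((hf i).trans (h ▸ (hf j).symm)).conj t⁻¹
    simpa [mul_assoc] using this)
  let σ : Equiv.Perm (Fin 5) := Equiv.ofBijective f (Finite.injective_iff_bijective.1 hinj)
  refine ⟨σ, ?_, hf⟩
  have hn : ∀ (n : ℕ) i, Sim (t ^ n * e i * (t ^ n)⁻¹) (e ((σ ^ n) i)) := by
    intro n
    induction n with
    | zero => intro i; simp [Sim]
    | succ n ih =>
      intro i
      rw [pow_succ', _root_.mul_inv_rev, show t * t ^ n * e i * ((t ^ n)⁻¹ * t⁻¹) =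
        t * (t ^ n * e i * (t ^ n)⁻¹) * t⁻¹ by group, pow_succ', Equiv.Perm.mul_apply]
      exact ((ih i).conj t).trans (hf _)
  refine orderOf_eq_prime (Equiv.ext fun i => hF.inj D.two ?_) fun h1 => ht1 ?_
  · have := hn r i
    rw [ht] at this
    simpa using this.symm
  · obtain ⟨c, hc⟩ := hF.scalar_of_comm D (X := (t : M4 F)) fun i => by
      rw [← Units.val_mul, ← Units.val_mul, mul_inv_eq_iff_eq_mul.1 (odd_fix hodd ht D.two (show Sim _ (e i) by
        have := hf i
        rwa [show f i = i from (congrArg (fun π : Equiv.Perm (Fin 5) => π i) h1 :)] at this))]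
    rcases scalar_sp htS hc with h | h
    · exact h
    · rw [h, hodd.neg_one_pow] at ht
      exact absurd ht.symm (one_ne_neg D.two 1)

theorem Fam.le_five {e : Fin 5 → G4 F} (hF : Fam R e) (D : Data R) {t : G4 F} {r : ℕ} [hr : Fact r.Prime]
    (hodd : Odd r) (htN : t ∈ Cfsg.Geo.subgroupNormalizer R) (ht : t ^ r = 1) (ht1 : t ≠ 1)
    (htS : t ∈ Cfsg.spGL 2 F) : r ≤ 5 := by
  obtain ⟨σ, hσ, -⟩ := hF.exists_perm D hodd htN ht ht1 htS
  have h : r ∣ Nat.factorial 5 := by
    rw [← hσ]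
    exact orderOf_dvd_card.trans (by rw [Fintype.card_perm, Fintype.card_fin])
  exact (Nat.Prime.dvd_factorial hr.out).1 h

theorem Fam.three {e : Fin 5 → G4 F} (hF : Fam R e) (D : Data R) {t : G4 F}
    (htN : t ∈ Cfsg.Geo.subgroupNormalizer R) (ht : t ^ 3 = 1) (ht1 : t ≠ 1) (htS : t ∈ Cfsg.spGL 2 F) :
    ∃ a b : G4 F, a * a = 1 ∧ b * b = 1 ∧ a * b = -(b * a) ∧ Commute t a ∧ Commute t b := by
  haveI : Fact (Nat.Prime 3) := ⟨Nat.prime_three⟩
  obtain ⟨σ, hσ, hσt⟩ := hF.exists_perm D (by decide) htN ht ht1 htS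
  have h1 := Equiv.Perm.card_fixedPoints_modEq (f := (⇑σ : Function.End (Fin 5))) (p := 3) (n := 1) (by
    rw [pow_one]
    have h : ∀ x, σ (σ (σ x)) = x := fun x => by
      have := congrArg (fun π : Equiv.Perm (Fin 5) => π x) (pow_orderOf_eq_one σ)
      simpa [hσ, pow_succ] using this
    funext x
    exact h x)
  have h2 : 1 < Fintype.card (Function.fixedPoints (⇑σ : Function.End (Fin 5))) := by
    rw [Fintype.card_fin, Nat.ModEq] at h1
    omega
  obtain ⟨⟨d, hd⟩, ⟨f, hf⟩, hne⟩ := Fintype.one_lt_card_iff.1 h2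
  have hfix : ∀ d, σ d = d → Commute t (e d) := fun d hd =>
    mul_inv_eq_iff_eq_mul.1 (odd_fix (by decide) ht D.two (by have := hσt d; rwa [hd] at this))
  exact ⟨e d, e f, hF.sq d, hF.sq f, hF.anti d f fun h => hne (Subtype.ext h), hfix d hd, hfix f hf⟩

theorem Fam.five {e : Fin 5 → G4 F} (hF : Fam R e) (D : Data R) {t : G4 F}
    (htN : t ∈ Cfsg.Geo.subgroupNormalizer R) (ht : t ^ 5 = 1) (ht1 : t ≠ 1) (htS : t ∈ Cfsg.spGL 2 F)
    (v : Fin 5 → M4 F) (hv : ∀ k, (t : M4 F) * v k = v k * (t : M4 F)) : ¬ LinearIndependent F v := by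
  classical
  haveI : Fact (Nat.Prime 5) := ⟨Nat.prime_five⟩
  obtain ⟨σ, hσ, hσt⟩ := hF.exists_perm D (by decide) htN ht ht1 htS
  have hs : ∀ (n : ℕ) i, Sim (t ^ n * e i * (t ^ n)⁻¹) (e ((σ ^ n) i)) := by
    intro n
    induction n with
    | zero => intro i; simp [Sim]
    | succ n ih =>
      intro i
      rw [pow_succ', _root_.mul_inv_rev, show t * t ^ n * e i * ((t ^ n)⁻¹ * t⁻¹) =
        t * (t ^ n * e i * (t ^ n)⁻¹) * t⁻¹ by group, pow_succ', Equiv.Perm.mul_apply]
      exact ((ih i).conj t).trans (hσt _)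
  obtain ⟨k₀, hmove⟩ : ∃ k₀, Function.Injective fun i : Fin 5 => (σ ^ (i : ℕ)) k₀ := by
    obtain ⟨k₀, hk₀⟩ : ∃ k₀, σ k₀ ≠ k₀ := by
      by_contra hcon
      push Not at hcon
      rw [show σ = 1 from Equiv.ext hcon, orderOf_one] at hσ
      omega
    refine ⟨k₀, fun i j hij => ?_⟩
    by_contra hne
    wlog hlt : (i : ℕ) < j generalizing i j with H
    · exact H j i hij.symm (Ne.symm hne)
        (lt_of_le_of_ne (not_lt.1 hlt) fun h => hne (Fin.ext h.symm))
    have hm : Function.IsPeriodicPt (⇑σ) ((j : ℕ) - i) k₀ := by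
      show σ^[(j : ℕ) - i] k₀ = k₀
      rw [← Equiv.Perm.coe_pow]
      refine (σ ^ (i : ℕ)).injective ?_
      rw [← Equiv.Perm.mul_apply, ← pow_add, Nat.add_sub_cancel' hlt.le]
      exact hij.symm
    have h5 : Function.IsPeriodicPt (⇑σ) 5 k₀ := by
      show σ^[5] k₀ = k₀
      have h := pow_orderOf_eq_one σ
      rw [hσ] at h
      rw [← Equiv.Perm.coe_pow, h]
      rfl
    have hco : Nat.gcd ((j : ℕ) - i) 5 = 1 := (Nat.prime_five.coprime_iff_not_dvd.2 fun h => by
      have := Nat.le_of_dvd (by omega) h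
      omega).symm
    have := hm.gcd h5
    rw [hco] at this
    exact hk₀ this
  let e' : Fin 5 → G4 F := fun i => t ^ (i : ℕ) * e k₀ * (t ^ (i : ℕ))⁻¹
  have hN : ∀ n : ℕ, t ^ n ∈ Cfsg.Geo.subgroupNormalizer R := fun n => Subgroup.pow_mem _ htN n
  have hF' : Fam R e' := by
    refine ⟨fun i => (Subgroup.mem_normalizer_iff.1 (hN i) (e k₀)).1 (hF.mem _), fun i => ?_, fun i j hij => ?_⟩
    · show t ^ (i : ℕ) * e k₀ * (t ^ (i : ℕ))⁻¹ * (t ^ (i : ℕ) * e k₀ * (t ^ (i : ℕ))⁻¹) = 1
      rw [show ∀ a b : G4 F, a * b * a⁻¹ * (a * b * a⁻¹) = a * (b * b) * a⁻¹ from fun a b => by group, hF.sq,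
        mul_one, mul_inv_cancel]
    · have hne : (σ ^ (i : ℕ)) k₀ ≠ (σ ^ (j : ℕ)) k₀ := fun h => hij (hmove h)
      rcases hs i k₀ with h | h <;> rcases hs j k₀ with h' | h' <;>
        simp only [e', h, h', mul_neg, neg_mul, neg_neg] <;> rw [hF.anti _ _ hne]
      all_goals simp
  have hshift : ∀ i, t * e' i * t⁻¹ = e' (i + 1) := fun i => by
    have hp : t * t ^ (i : ℕ) = t ^ ((i + 1 : Fin 5) : ℕ) := by
      rw [← pow_succ', Fin.val_add, show ((1 : Fin 5) : ℕ) = 1 from rfl, ← pow_eq_pow_mod _ ht]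
    show t * (t ^ (i : ℕ) * e k₀ * (t ^ (i : ℕ))⁻¹) * t⁻¹ = t ^ ((i + 1 : Fin 5) : ℕ) * e k₀ * _
    rw [← hp]; group
  have hmono : ∀ i k, t * mono e' (some (i, k)) * t⁻¹ = mono e' (some (i + 1, k)) := fun i k => by
    have hprod : ∀ a b, t * (e' a * e' b) * t⁻¹ = e' (a + 1) * e' (b + 1) := fun a b => by
      rw [← hshift, ← hshift]; group
    simp only [mono]
    split_ifs
    · exact hshift i
    · rw [hprod, add_right_comm]
    · rw [hprod, add_right_comm]
  let Φ : (Fin 4 → F) →ₗ[F] M4 F :=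
    { toFun := fun c => c 0 • 1 + ∑ i, (c 1 • (mono e' (some (i, 0)) : M4 F) + c 2 • (mono e' (some (i, 1)) : M4 F) +
        c 3 • (mono e' (some (i, 2)) : M4 F))
      map_add' := fun a b => by
        simp only [Pi.add_apply, add_smul, Finset.sum_add_distrib]; abel
      map_smul' := fun a b => by
        simp only [Pi.smul_apply, smul_eq_mul, RingHom.id_apply, smul_add, Finset.smul_sum, smul_smul] }
  intro hli
  have hle : Submodule.span F (Set.range v) ≤ LinearMap.range Φ := by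
    rw [Submodule.span_le]
    rintro _ ⟨n, rfl⟩
    obtain ⟨c, hc⟩ := hF'.exists_coeff D (v n)
    have hconj : (t : M4 F) * v n * ((t⁻¹ : G4 F) : M4 F) = v n := by
      rw [hv, mul_assoc, ← Units.val_mul, mul_inv_cancel, Units.val_one, mul_one]
    have hshiftc : ∀ i k, c (some (i + 1, k)) = c (some (i, k)) := by
      intro i k
      rw [hc, Finset.mul_sum, Finset.sum_mul] at hconj
      let π : Mon → Mon := Option.map fun p => (p.1 + 1, p.2)
      have hπ : Function.Bijective π := by decide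
      have hterm : ∀ o, (t : M4 F) * (c o • (mono e' o : M4 F)) * ((t⁻¹ : G4 F) : M4 F) =
          c o • (mono e' (π o) : M4 F) := by
        rintro (_ | ⟨i, k⟩)
        · rw [Matrix.mul_smul, Matrix.smul_mul, ← Units.val_mul, ← Units.val_mul]
          simp [mono, π]
        · rw [Matrix.mul_smul, Matrix.smul_mul, ← Units.val_mul, ← Units.val_mul, hmono]
          rfl
      rw [Finset.sum_congr rfl fun o _ => hterm o] at hconj
      have h2 : ∑ o, c (π o) • (mono e' (π o) : M4 F) = ∑ o, c o • (mono e' o : M4 F) :=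
        Fintype.sum_bijective π hπ _ _ fun o => rfl
      rw [← h2, ← sub_eq_zero, ← Finset.sum_sub_distrib] at hconj
      simp only [← sub_smul] at hconj
      have h3 := Fintype.linearIndependent_iff.1 ((hF'.indep D).comp π hπ.1) _ hconj (some (i, k))
      exact (sub_eq_zero.1 h3).symm
    have hconst : ∀ i k, c (some (i, k)) = c (some (0, k)) := fun i k => by
      have e1 := hshiftc 0 k
      have e2 := hshiftc 1 k
      have e3 := hshiftc 2 k
      have e4 := hshiftc 3 k
      fin_cases i <;> simp_all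
    refine ⟨![c none, c (some (0, 0)), c (some (0, 1)), c (some (0, 2))], ?_⟩
    rw [hc]
    show c none • (1 : M4 F) + _ = _
    rw [Fintype.sum_option, Fintype.sum_prod_type]
    simp only [Fin.sum_univ_three, hconst]
    rfl
  have h1 := Submodule.finrank_mono hle
  have h2 := LinearMap.finrank_range_le Φ
  rw [finrank_span_eq_card hli, Fintype.card_fin] at h1
  rw [Module.finrank_fin_fun] at h2
  omega

end Cfsg.Agent.SympType4
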