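import Cfsg.Agent.SympType4.Scal
import Cfsg.Agent.Lib.Forms.Bases

/-!
Elements of the normalizer of a symplectic type group of order 64 in `GL_4`, normal forms of elements of small
order, and conjugacy of elements of order five.
-/

set_option autoImplicit false

namespace Cfsg.Agent.SympType4.Scal

open Cfsg Matrix Module

variable {F : Type*} [Field F] {R : Subgroup (H4 F)} {i : F}

theorem half (h2 : (2 : F) ≠ 0) : (2 : F)⁻¹ + (2 : F)⁻¹ = 1 := by field_simp; norm_num

theorem quarter (h2 : (2 : F) ≠ 0) : (4 : F) ≠ 0 := by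
  rw [show (4 : F) = 2 * 2 by norm_num]
  exact mul_ne_zero h2 h2

/-- a unit from two matrices -/
def mkUnit (A A' : Q4 F) (h : A * A' = 1) : H4 F := ⟨A, A', h, mul_eq_one_comm.1 h⟩

/-- the element `½(1 + g₁ + g₂ - g₁g₂)` -/
def Wop (g₁ g₂ : Q4 F) : Q4 F := (2 : F)⁻¹ • (1 + g₁ + g₂ - g₁ * g₂)

theorem Wop_sq (h2 : (2 : F) ≠ 0) {g₁ g₂ : Q4 F} (h11 : g₁ * g₁ = 1) (h22 : g₂ * g₂ = 1) (hc : g₁ * g₂ = g₂ * g₁) :
    Wop g₁ g₂ * Wop g₁ g₂ = 1 := by
  have k11 : ∀ X, g₁ * (g₁ * X) = X := fun X => by rw [← mul_assoc, h11, one_mul]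
  have k22 : ∀ X, g₂ * (g₂ * X) = X := fun X => by rw [← mul_assoc, h22, one_mul]
  have k12 : ∀ X, g₂ * (g₁ * X) = g₁ * (g₂ * X) := fun X => by rw [← mul_assoc, ← hc, mul_assoc]
  simp only [Wop, Matrix.smul_mul, Matrix.mul_smul, smul_smul, mul_add, add_mul, mul_sub, sub_mul, one_mul, mul_one,
    mul_assoc, k11, k22, k12, h11, h22, ← hc]
  match_scalars <;> field_simp <;> ring

theorem Wop_step {g₁ g₂ h : Q4 F} (h22 : g₂ * g₂ = 1) (hc : g₁ * g₂ = g₂ * g₁) (ha : g₁ * h = -(h * g₁))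
    (hb : g₂ * h = h * g₂) : Wop g₁ g₂ * h = h * g₂ * Wop g₁ g₂ := by
  have k22 : ∀ X, g₂ * (g₂ * X) = X := fun X => by rw [← mul_assoc, h22, one_mul]
  have k12 : ∀ X, g₂ * (g₁ * X) = g₁ * (g₂ * X) := fun X => by rw [← mul_assoc, ← hc, mul_assoc]
  have ka : ∀ X, g₁ * (h * X) = -(h * (g₁ * X)) := fun X => by rw [← mul_assoc, ha, neg_mul, mul_assoc]
  simp only [Wop, Matrix.smul_mul, Matrix.mul_smul, mul_add, add_mul, mul_sub, sub_mul, one_mul, mul_one,
    mul_assoc, k22, k12, ka, h22, ha, hb, ← hc, mul_neg, neg_mul]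
  match_scalars <;> ring

theorem Wop_step' {g₁ g₂ h : Q4 F} (h11 : g₁ * g₁ = 1) (hc : g₁ * g₂ = g₂ * g₁) (ha : g₁ * h = h * g₁)
    (hb : g₂ * h = -(h * g₂)) : Wop g₁ g₂ * h = h * g₁ * Wop g₁ g₂ := by
  have h : Wop g₂ g₁ * h = h * g₁ * Wop g₂ g₁ := Wop_step h11 hc.symm hb ha
  rwa [show Wop g₂ g₁ = Wop g₁ g₂ by rw [Wop, Wop, hc, add_right_comm 1 g₂ g₁]] at h

theorem Wop_comm {g₁ g₂ h : Q4 F} (ha : g₁ * h = h * g₁) (hb : g₂ * h = h * g₂) :
    Wop g₁ g₂ * h = h * Wop g₁ g₂ := by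
  simp only [Wop, Matrix.smul_mul, Matrix.mul_smul, mul_add, add_mul, mul_sub, sub_mul, one_mul, mul_one,
    mul_assoc, ha, hb]
  rw [← mul_assoc g₁ h, ha, mul_assoc]

/-- `S = I + J + IJ` -/
def Sop (I J : Q4 F) : Q4 F := I + J + I * J

/-- the element of order three -/
def Aop (I J : Q4 F) : Q4 F := (2 : F)⁻¹ • (-1 + Sop I J)

/-- its inverse -/
def Aop' (I J : Q4 F) : Q4 F := (2 : F)⁻¹ • (-1 - Sop I J)

/-- the relations of a quaternion pair -/
structure Quat (I J : Q4 F) : Prop where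
  ii : I * I = -1
  jj : J * J = -1
  ji : J * I = -(I * J)

theorem Quat.rules {I J : Q4 F} (h : Quat I J) :
    (∀ X, I * (I * X) = -X) ∧ (∀ X, J * (J * X) = -X) ∧ ∀ X, J * (I * X) = -(I * (J * X)) :=
  ⟨fun X => by rw [← mul_assoc, h.ii, neg_one_mul], fun X => by rw [← mul_assoc, h.jj, neg_one_mul],
    fun X => by rw [← mul_assoc, h.ji, neg_mul, mul_assoc]⟩

theorem Quat.mul_inv (h2 : (2 : F) ≠ 0) {I J : Q4 F} (h : Quat I J) : Aop I J * Aop' I J = 1 := by
  obtain ⟨k1, k2, k3⟩ := h.rules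
  simp only [Aop, Aop', Sop, Matrix.smul_mul, Matrix.mul_smul, smul_smul, mul_add, add_mul, mul_sub, sub_mul, mul_neg,
    neg_mul, one_mul, mul_one, mul_assoc, k1, k2, k3, h.ii, h.jj, h.ji, neg_neg]
  match_scalars <;> field_simp <;> ring

theorem Quat.sq_eq (h2 : (2 : F) ≠ 0) {I J : Q4 F} (h : Quat I J) : Aop I J * Aop I J = Aop' I J := by
  obtain ⟨k1, k2, k3⟩ := h.rules
  simp only [Aop, Aop', Sop, Matrix.smul_mul, Matrix.mul_smul, smul_smul, mul_add, add_mul, mul_neg,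
    neg_mul, one_mul, mul_one, mul_assoc, k1, k2, k3, h.ii, h.jj, h.ji, neg_neg]
  match_scalars <;> field_simp <;> ring

theorem Quat.move (h2 : (2 : F) ≠ 0) {I J : Q4 F} (h : Quat I J) :
    Aop I J * J * Aop' I J = I ∧ Aop I J * I * Aop' I J = I * J := by
  obtain ⟨k1, k2, k3⟩ := h.rules
  have e1 : Aop I J * J = I * Aop I J := by
    simp only [Aop, Sop, Matrix.smul_mul, Matrix.mul_smul, mul_add, add_mul, mul_neg, neg_mul, one_mul, mul_one,
      mul_assoc, k1, k2, k3, h.ii, h.jj, h.ji, neg_neg]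
    match_scalars <;> ring
  have e2 : Aop I J * I = I * J * Aop I J := by
    simp only [Aop, Sop, Matrix.smul_mul, Matrix.mul_smul, mul_add, add_mul, mul_neg, neg_mul, one_mul, mul_one,
      mul_assoc, k1, k2, k3, h.ii, h.jj, h.ji, neg_neg]
    match_scalars <;> ring
  constructor
  · rw [e1, mul_assoc, h.mul_inv h2, mul_one]
  · rw [e2, mul_assoc, h.mul_inv h2, mul_one]

theorem quat_of_pair {a b : Q4 F} (hi : i * i = -1) (ha : a * a = 1) (hb : b * b = 1) (hab : a * b = -(b * a)) :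
    Quat (a * b) (i • a) := by
  have hba : b * a = -(a * b) := anti_symm hab
  refine ⟨?_, ?_, ?_⟩
  · rw [mul_assoc, ← mul_assoc b a b, hba, neg_mul, mul_neg, mul_assoc a b b, hb, mul_one, ha]
  · rw [Matrix.smul_mul, Matrix.mul_smul, smul_smul, hi, ha, neg_one_smul]
  · rw [Matrix.smul_mul, Matrix.mul_smul, mul_assoc a b a, hba, mul_neg, smul_neg, neg_neg]

theorem Aop_comm {I J h : Q4 F} (hI : I * h = h * I) (hJ : J * h = h * J) : Aop I J * h = h * Aop I J := by
  simp only [Aop, Sop, Matrix.smul_mul, Matrix.mul_smul, mul_add, add_mul, mul_neg, neg_mul, one_mul, mul_one,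
    mul_assoc, hI, hJ]
  rw [← mul_assoc I h, hI, mul_assoc]

namespace Gens

variable {a : Fin 4 → Q4 F}

theorem trace_one_two (hG : Gens R a) (D : Data R i) {X : Q4 F} (h : X * a 1 = -(a 1 * X)) : Matrix.trace X = 0 :=
  trace_anti D.two (hG.mem 1).isUnit h

theorem exists_W (hG : Gens R a) (D : Data R i) :
    ∃ w ∈ Cfsg.Geo.subgroupNormalizer R, (w : Q4 F) = Wop (a 0) (a 2) ∧
      (w : Q4 F) * (w : Q4 F) = 1 ∧ Matrix.trace (w : Q4 F) = 2 := by
  have hsq := Wop_sq D.two (hG.sq 0) (hG.sq 2) hG.com.1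
  refine ⟨mkUnit _ _ hsq, hG.normalizes D _ fun j => ?_, rfl, hsq, ?_⟩
  · show Mem R (Wop (a 0) (a 2) * a j * Wop (a 0) (a 2))
    fin_cases j
    · show Mem R (Wop (a 0) (a 2) * a 0 * Wop (a 0) (a 2))
      rw [Wop_comm rfl hG.com.1.symm, mul_assoc, hsq, mul_one]
      exact hG.mem 0
    · show Mem R (Wop (a 0) (a 2) * a 1 * Wop (a 0) (a 2))
      rw [Wop_step (hG.sq 2) hG.com.1 hG.anti.1 hG.com.2.2.1.symm, mul_assoc, hsq, mul_one]
      exact (hG.mem 1).mul (hG.mem 2)
    · show Mem R (Wop (a 0) (a 2) * a 2 * Wop (a 0) (a 2))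
      rw [Wop_comm hG.com.1 rfl, mul_assoc, hsq, mul_one]
      exact hG.mem 2
    · show Mem R (Wop (a 0) (a 2) * a 3 * Wop (a 0) (a 2))
      rw [Wop_step' (hG.sq 0) hG.com.1 hG.com.2.1 hG.anti.2, mul_assoc, hsq, mul_one]
      exact (hG.mem 3).mul (hG.mem 0)
  · show Matrix.trace (Wop (a 0) (a 2)) = 2
    rw [Wop, Matrix.trace_smul, Matrix.trace_sub, Matrix.trace_add, Matrix.trace_add, Matrix.trace_one,
      hG.trace_one_two D hG.anti.1, trace_anti D.two (hG.mem 3).isUnit hG.anti.2, hG.trace_one_two D (X := a 0 * a 2)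
        (by rw [mul_assoc, ← hG.com.2.2.1, ← mul_assoc, hG.anti.1, neg_mul, mul_assoc]), Fintype.card_fin, smul_eq_mul]
    field_simp [D.two]
    norm_num

/-- the two elements of order three -/
theorem exists_threes (hG : Gens R a) (D : Data R i) :
    ∃ A ∈ Cfsg.Geo.subgroupNormalizer R, ∃ B ∈ Cfsg.Geo.subgroupNormalizer R,
      ((A : Q4 F) = Aop (a 0 * a 1) (i • a 0) ∧ (B : Q4 F) = Aop (a 2 * a 3) (i • a 2)) ∧
      A ^ 3 = 1 ∧ (A * B) ^ 3 = 1 ∧ Matrix.trace (A : Q4 F) = -2 ∧ Matrix.trace ((A * B : H4 F) : Q4 F) = 1 := by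
  obtain ⟨⟨h01, h23⟩, h02, h03, h12, h13⟩ := And.intro hG.anti hG.com
  have hiR : ∀ {X}, Mem R X → Mem R (i • X) := fun hX => D.smul_mem (Or.inr (Or.inr (Or.inl rfl))) hX
  have h2 := D.two
  have key : ∀ p q u v : Fin 4, a p * a q = -(a q * a p) → a p * a u = a u * a p → a p * a v = a v * a p →
      a q * a u = a u * a q → a q * a v = a v * a q → ({p, q, u, v} : Finset (Fin 4)) = Finset.univ →
      ∃ A ∈ Cfsg.Geo.subgroupNormalizer R, (A : Q4 F) = Aop (a p * a q) (i • a p) ∧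
        (∀ h : Q4 F, a p * h = h * a p → a q * h = h * a q → (A : Q4 F) * h = h * (A : Q4 F)) ∧ A ^ 3 = 1 := by
    intro p q u v hpq hpu hpv hqu hqv huniv
    have hQ := quat_of_pair (i := i) D.isq (hG.sq p) (hG.sq q) hpq
    set I := a p * a q
    set J := i • a p
    have hcomm : ∀ h : Q4 F, a p * h = h * a p → a q * h = h * a q → Aop I J * h = h * Aop I J := fun h hp hq =>
      Aop_comm (by rw [mul_assoc, hq, ← mul_assoc, hp, mul_assoc]) (by rw [Matrix.smul_mul, hp, Matrix.mul_smul])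
    have hI : Mem R I := (hG.mem p).mul (hG.mem q)
    have hJ : Mem R J := hiR (hG.mem p)
    refine ⟨mkUnit _ _ (hQ.mul_inv h2), hG.normalizes D _ fun j => ?_, rfl, hcomm, Units.ext ?_⟩
    · show Mem R (Aop I J * a j * Aop' I J)
      have hp' : Mem R (Aop I J * a p * Aop' I J) := by
        rw [show a p = (-i) • J by rw [smul_smul, neg_mul, D.isq, neg_neg, one_smul], Matrix.mul_smul, Matrix.smul_mul,
          (hQ.move h2).1]
        exact D.smul_mem (Or.inr (Or.inr (Or.inr rfl))) hI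
      have hq' : Mem R (Aop I J * a q * Aop' I J) := by
        rw [show a q = a p * I by rw [← mul_assoc, hG.sq, one_mul],
          show Aop I J * (a p * I) * Aop' I J = (Aop I J * a p * Aop' I J) * (Aop I J * I * Aop' I J) by
            rw [show (Aop I J * a p * Aop' I J) * (Aop I J * I * Aop' I J) =
              Aop I J * a p * (Aop' I J * Aop I J) * I * Aop' I J by simp only [mul_assoc],
              mul_eq_one_comm.1 (hQ.mul_inv h2), mul_one]
            simp only [mul_assoc], (hQ.move h2).2]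
        exact hp'.mul (hI.mul hJ)
      have hu' : ∀ k, a p * a k = a k * a p → a q * a k = a k * a q → Mem R (Aop I J * a k * Aop' I J) := fun k hp hq => by
        rw [hcomm _ hp hq, mul_assoc, hQ.mul_inv h2, mul_one]
        exact hG.mem k
      have hj : j ∈ ({p, q, u, v} : Finset (Fin 4)) := huniv ▸ Finset.mem_univ j
      simp only [Finset.mem_insert, Finset.mem_singleton] at hj
      rcases hj with rfl | rfl | rfl | rfl
      · exact hp'
      · exact hq'
      · exact hu' _ hpu hqu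
      · exact hu' _ hpv hqv
    · rw [Units.val_pow_eq_pow_val, pow_succ, pow_two]
      show Aop I J * Aop I J * Aop I J = 1
      rw [hQ.sq_eq h2]
      exact mul_eq_one_comm.1 (hQ.mul_inv h2)
  obtain ⟨A, hA, hAe, hAc, hA3⟩ := key 0 1 2 3 h01 h02 h03 h12 h13 (by decide)
  obtain ⟨B, hB, hBe, -, hB3⟩ := key 2 3 0 1 h23 h02.symm h12.symm h03.symm h13.symm (by decide)
  have hc2 : ∀ h : Q4 F, h * a 2 = a 2 * h → h * a 3 = a 3 * h → h * (B : Q4 F) = (B : Q4 F) * h := fun h e2 e3 => by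
    rw [hBe]
    exact (Aop_comm (by rw [mul_assoc, ← e3, ← mul_assoc, ← e2, mul_assoc])
      (by rw [Matrix.smul_mul, ← e2, Matrix.mul_smul])).symm
  have hAB : Commute A B := Units.ext (by
    rw [Units.val_mul, Units.val_mul]
    exact hAc _ (hc2 _ h02 h03) (hc2 _ h12 h13))
  refine ⟨A, hA, B, hB, ⟨hAe, hBe⟩, hA3, by rw [hAB.mul_pow, hA3, hB3, one_mul], ?_, ?_⟩
  all_goals
    have hS : ∀ Y : Q4 F, a 0 * Y = Y * a 0 → a 1 * Y = Y * a 1 →
        Matrix.trace (Sop (a 0 * a 1) (i • a 0) * Y) = 0 := fun Y y0 y1 => by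
      rw [Sop, add_mul, add_mul, Matrix.trace_add, Matrix.trace_add,
        trace_anti h2 (hG.mem 0).isUnit (X := a 0 * a 1 * Y) (by
          rw [mul_assoc _ Y, ← y0, ← mul_assoc, mul_assoc (a 0) (a 1) (a 0), anti_symm h01, mul_neg, neg_mul]
          simp only [mul_assoc]),
        hG.trace_one_two D (X := (i • a 0) * Y) (by
          rw [Matrix.smul_mul, Matrix.smul_mul, Matrix.mul_smul, mul_assoc, ← y1, ← mul_assoc, h01, neg_mul,
            smul_neg, mul_assoc]),
        trace_anti h2 (hG.mem 0).isUnit (X := a 0 * a 1 * (i • a 0) * Y) (by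
          simp only [Matrix.mul_smul, Matrix.smul_mul, mul_assoc, ← y0]
          rw [← smul_neg]
          congr 1
          rw [← mul_assoc (a 1) (a 0) (a 0 * Y), anti_symm h01, neg_mul, mul_neg, mul_assoc])]
      simp
  · have h := hS 1 (by simp) (by simp)
    rw [mul_one] at h
    rw [hAe, Aop, Matrix.trace_smul, Matrix.trace_add, Matrix.trace_neg, Matrix.trace_one, h, Fintype.card_fin,
      smul_eq_mul]
    field_simp
    norm_num
  · have hS' : Matrix.trace (Sop (a 2 * a 3) (i • a 2)) = 0 := by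
      have hq := quat_of_pair (i := i) D.isq (hG.sq 2) (hG.sq 3) h23
      rw [Sop, Matrix.trace_add, Matrix.trace_add,
        trace_anti h2 (hG.mem 2).isUnit (X := a 2 * a 3) (by
          rw [mul_assoc, anti_symm h23, mul_neg]),
        trace_anti h2 (hG.mem 3).isUnit (X := i • a 2) (by
          rw [Matrix.smul_mul, Matrix.mul_smul, h23, smul_neg]),
        trace_anti h2 (hG.mem 2).isUnit (X := a 2 * a 3 * (i • a 2)) (by
          simp only [Matrix.mul_smul, Matrix.smul_mul, mul_assoc]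
          rw [← smul_neg]
          congr 1
          rw [hG.sq, mul_one, ← mul_assoc (a 2) (a 2), hG.sq, one_mul, anti_symm h23, neg_neg])]
      simp
    have hc : ∀ h : Q4 F, h * a 2 = a 2 * h → h * a 3 = a 3 * h →
        h * Sop (a 2 * a 3) (i • a 2) = Sop (a 2 * a 3) (i • a 2) * h := fun h e2 e3 => by
      simp only [Sop, mul_add, add_mul, Matrix.mul_smul, Matrix.smul_mul, e2, mul_assoc, e3, ← mul_assoc h]
    have h := hS (Sop (a 2 * a 3) (i • a 2)) (hc _ h02 h03) (hc _ h12 h13)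
    have h0 := hS 1 (by simp) (by simp)
    rw [mul_one] at h0
    rw [Units.val_mul, hAe, hBe, Aop, Aop, Matrix.smul_mul, Matrix.mul_smul, smul_smul, Matrix.trace_smul, add_mul,
      mul_add, mul_add, neg_mul, neg_mul, mul_neg, mul_neg, one_mul, one_mul, mul_one, neg_neg, Matrix.trace_add,
      Matrix.trace_add, Matrix.trace_add, Matrix.trace_neg, Matrix.trace_neg, Matrix.trace_one, h, h0, hS',
      Fintype.card_fin, smul_eq_mul]
    field_simp
    norm_num

/-- five anticommuting involutions -/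
def five (a : Fin 4 → Q4 F) (i : F) : Fin 5 → Q4 F :=
  ![a 0, a 1, i • (a 0 * a 1 * a 2), i • (a 0 * a 1 * a 3), a 0 * a 1 * a 2 * a 3]

/-- the product of four reflections -/
def Pop (e : Fin 5 → Q4 F) : Q4 F := (e 0 - e 1) * (e 1 - e 2) * (e 2 - e 3) * (e 3 - e 4)

/-- the reversed product -/
def Pop' (e : Fin 5 → Q4 F) : Q4 F := (e 3 - e 4) * (e 2 - e 3) * (e 1 - e 2) * (e 0 - e 1)

theorem five_rules (hG : Gens R a) (D : Data R i) :
    (∀ k, Mem R (five a i k)) ∧ (∀ k, five a i k * five a i k = 1) ∧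
      ∀ k l, k ≠ l → five a i k * five a i l = -(five a i l * five a i k) := by
  obtain ⟨⟨h01, h23⟩, h02, h03, h12, h13⟩ := And.intro hG.anti hG.com
  have hii : i * i = -1 := D.isq
  have k00 : ∀ j X, a j * (a j * X) = X := fun j X => by rw [← mul_assoc, hG.sq, one_mul]
  have e10 : a 1 * a 0 = -(a 0 * a 1) := anti_symm h01
  have e32 : a 3 * a 2 = -(a 2 * a 3) := anti_symm h23
  have k10 : ∀ X, a 1 * (a 0 * X) = -(a 0 * (a 1 * X)) := fun X => by rw [← mul_assoc, e10, neg_mul, mul_assoc]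
  have k32 : ∀ X, a 3 * (a 2 * X) = -(a 2 * (a 3 * X)) := fun X => by rw [← mul_assoc, e32, neg_mul, mul_assoc]
  have k20 : ∀ X, a 2 * (a 0 * X) = a 0 * (a 2 * X) := fun X => by rw [← mul_assoc, ← h02, mul_assoc]
  have k30 : ∀ X, a 3 * (a 0 * X) = a 0 * (a 3 * X) := fun X => by rw [← mul_assoc, ← h03, mul_assoc]
  have k21 : ∀ X, a 2 * (a 1 * X) = a 1 * (a 2 * X) := fun X => by rw [← mul_assoc, ← h12, mul_assoc]
  have k31 : ∀ X, a 3 * (a 1 * X) = a 1 * (a 3 * X) := fun X => by rw [← mul_assoc, ← h13, mul_assoc]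
  refine ⟨fun k => ?_, fun k => ?_, fun k l hkl => ?_⟩
  · have hiR : ∀ {X}, Mem R X → Mem R (i • X) := fun hX => D.smul_mem (Or.inr (Or.inr (Or.inl rfl))) hX
    fin_cases k
    · exact hG.mem 0
    · exact hG.mem 1
    · exact hiR (((hG.mem 0).mul (hG.mem 1)).mul (hG.mem 2))
    · exact hiR (((hG.mem 0).mul (hG.mem 1)).mul (hG.mem 3))
    · exact (((hG.mem 0).mul (hG.mem 1)).mul (hG.mem 2)).mul (hG.mem 3)
  · fin_cases k <;>
      simp [five, Matrix.smul_mul, Matrix.mul_smul, smul_smul, mul_assoc, k00, k10, k32, k20, k30, k21, k31, e10, e32,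
        ← h02, ← h03, ← h12, ← h13, hG.sq, hii, mul_neg]
  · fin_cases k <;> fin_cases l <;> first
      | exact absurd rfl hkl
      | simp [five, Matrix.smul_mul, Matrix.mul_smul, smul_smul, mul_assoc, k00, k10, k32, k20, k30, k21, k31, e10,
          e32, ← h02, ← h03, ← h12, ← h13, hG.sq, hii, mul_neg]

theorem exists_five (hG : Gens R a) (D : Data R i) (hroot : ∀ c : F, c ≠ 0 → ∃ l : F, l ^ 5 = c) :
    ∃ t ∈ Cfsg.Geo.subgroupNormalizer R, (∃ l : F, (t : Q4 F) = l • Pop (five a i)) ∧ t ^ 5 = 1 ∧ t ≠ 1 := by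
  obtain ⟨hmem, hsq, hanti⟩ := hG.five_rules D
  set e := five a i with he
  have hs2 : ∀ k l, k ≠ l → (e k - e l) * (e k - e l) = (2 : F) • (1 : Q4 F) := fun k l h => by
    simp only [sub_mul, mul_sub, hsq, hanti k l h]
    rw [two_smul]; abel
  have hstep : ∀ k l m, k ≠ l → (e k - e l) * e m = -(e (Equiv.swap k l m) * (e k - e l)) := by
    intro k l m h
    simp only [sub_mul, mul_sub]
    rcases eq_or_ne m k with rfl | hmk
    · rw [Equiv.swap_apply_left, hsq, hsq, hanti l m (Ne.symm h)]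
      abel
    rcases eq_or_ne m l with rfl | hml
    · rw [Equiv.swap_apply_right, hsq, hsq, hanti k m h]
      abel
    · rw [Equiv.swap_apply_of_ne_of_ne hmk hml, hanti k m (Ne.symm hmk), hanti l m (Ne.symm hml)]
      abel
  have h16 : Pop e * Pop' e = (16 : F) • 1 := by
    rw [Pop, Pop', show ∀ s t u v : Q4 F, s * t * u * v * (v * u * t * s) = s * (t * (u * (v * v) * u) * t) * s from
      fun s t u v => by simp only [mul_assoc]]
    rw [hs2 3 4 (by decide)]
    simp only [Matrix.mul_smul, Matrix.smul_mul, mul_one]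
    rw [hs2 2 3 (by decide)]
    simp only [Matrix.mul_smul, Matrix.smul_mul, mul_one]
    rw [hs2 1 2 (by decide)]
    simp only [Matrix.mul_smul, Matrix.smul_mul, mul_one]
    rw [hs2 0 1 (by decide)]
    simp only [smul_smul]
    norm_num
  have hPe : ∀ k : Fin 5, Pop e * e k = e (k + 1) * Pop e := by
    intro k
    have hσ : ∀ k : Fin 5,
        Equiv.swap (0 : Fin 5) 1 (Equiv.swap 1 2 (Equiv.swap 2 3 (Equiv.swap 3 4 k))) = k + 1 := by decide
    rw [← hσ k, Pop, mul_assoc _ (e 3 - e 4), hstep 3 4 k (by decide), mul_neg, ← mul_assoc,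
      mul_assoc _ (e 2 - e 3), hstep 2 3 _ (by decide)]
    simp only [mul_neg, neg_mul, neg_neg, ← mul_assoc]
    rw [mul_assoc (e 0 - e 1) (e 1 - e 2), hstep 1 2 _ (by decide)]
    simp only [mul_neg, neg_mul, ← mul_assoc]
    rw [hstep 0 1 _ (by decide)]
    simp only [neg_mul, neg_neg]
  have hA : ((4 : F)⁻¹ • Pop e) * ((4 : F)⁻¹ • Pop' e) = 1 := by
    rw [Matrix.smul_mul, Matrix.mul_smul, h16, smul_smul, smul_smul, show (16 : F) = 4 * 4 by norm_num,
      show (4 : F)⁻¹ * (4 : F)⁻¹ * (4 * 4) = 1 by field_simp [quarter D.two], one_smul]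
  set y := mkUnit _ _ hA with hy
  have hye : ∀ k, (y : Q4 F) * e k = e (k + 1) * (y : Q4 F) := fun k => by
    show ((4 : F)⁻¹ • Pop e) * e k = e (k + 1) * ((4 : F)⁻¹ • Pop e)
    rw [Matrix.smul_mul, Matrix.mul_smul, hPe]
  have hyi : (y : Q4 F) * ((y⁻¹ : H4 F) : Q4 F) = 1 := y.mul_inv
  have hye' : ∀ k, (y : Q4 F) * e k * ((y⁻¹ : H4 F) : Q4 F) = e (k + 1) := fun k => by
    rw [hye, mul_assoc, hyi, mul_one]
  have ha2 : a 2 = i • (e 0 * e 1 * e 2) := by
    simp only [he, five, Matrix.cons_val_zero, Matrix.cons_val_one, Matrix.cons_val, Matrix.mul_smul, smul_smul,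
      D.isq, neg_one_smul]
    rw [← mul_assoc, mul_assoc (a 0) (a 1) (a 0 * a 1), ← mul_assoc (a 1) (a 0) (a 1), anti_symm hG.anti.1, neg_mul,
      mul_assoc (a 0) (a 1) (a 1), hG.sq, mul_one, mul_neg, hG.sq, neg_mul, one_mul, neg_neg]
  have ha3 : a 3 = i • (e 0 * e 1 * e 3) := by
    simp only [he, five, Matrix.cons_val_zero, Matrix.cons_val_one, Matrix.cons_val, Matrix.mul_smul, smul_smul,
      D.isq, neg_one_smul]
    rw [← mul_assoc, mul_assoc (a 0) (a 1) (a 0 * a 1), ← mul_assoc (a 1) (a 0) (a 1), anti_symm hG.anti.1, neg_mul,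
      mul_assoc (a 0) (a 1) (a 1), hG.sq, mul_one, mul_neg, hG.sq, neg_mul, one_mul, neg_neg]
  have hprod : ∀ p q s, (y : Q4 F) * (e p * e q * e s) * ((y⁻¹ : H4 F) : Q4 F) = e (p + 1) * e (q + 1) * e (s + 1) := by
    intro p q s
    rw [← mul_assoc, ← mul_assoc, hye, mul_assoc (e (p + 1)) (y : Q4 F), hye, ← mul_assoc,
      mul_assoc (e (p + 1) * e (q + 1)) (y : Q4 F), hye, ← mul_assoc, mul_assoc _ (y : Q4 F), hyi, mul_one]
  have hiR : ∀ {X}, Mem R X → Mem R (i • X) := fun hX => D.smul_mem (Or.inr (Or.inr (Or.inl rfl))) hX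
  have hyN : y ∈ Cfsg.Geo.subgroupNormalizer R := hG.normalizes D y fun j => by
    fin_cases j
    · show Mem R ((y : Q4 F) * e 0 * ((y⁻¹ : H4 F) : Q4 F))
      rw [hye']; exact hmem _
    · show Mem R ((y : Q4 F) * e 1 * ((y⁻¹ : H4 F) : Q4 F))
      rw [hye']; exact hmem _
    · show Mem R ((y : Q4 F) * a 2 * ((y⁻¹ : H4 F) : Q4 F))
      rw [ha2, Matrix.mul_smul, Matrix.smul_mul, hprod]
      exact hiR (((hmem _).mul (hmem _)).mul (hmem _))
    · show Mem R ((y : Q4 F) * a 3 * ((y⁻¹ : H4 F) : Q4 F))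
      rw [ha3, Matrix.mul_smul, Matrix.smul_mul, hprod]
      exact hiR (((hmem _).mul (hmem _)).mul (hmem _))
  set Y := (y : Q4 F) with hY
  have h5 : ∀ k, Y ^ 5 * e k = e k * Y ^ 5 := fun k => by
    have h : ∀ n : ℕ, Y ^ n * e k = e ((fun x : Fin 5 => x + 1)^[n] k) * Y ^ n := by
      intro n
      induction n with
      | zero => simp
      | succ n ih => rw [pow_succ', mul_assoc, ih, ← mul_assoc, hye, mul_assoc, Function.iterate_succ_apply']
    have hit : ∀ k : Fin 5, (fun x : Fin 5 => x + 1)^[5] k = k := by decide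
    rw [h, hit]
  obtain ⟨c, hc⟩ := D.scal (Y ^ 5) (by
    intro X hX
    obtain ⟨b, m, -, rfl⟩ := hG.cover D hX
    have ha : ∀ j, Commute (Y ^ 5) (a j) := fun j => by
      fin_cases j
      · exact h5 0
      · exact h5 1
      · show Commute (Y ^ 5) (a 2)
        rw [ha2]
        exact ((Commute.mul_right (h5 0) (h5 1)).mul_right (h5 2)).smul_right i
      · show Commute (Y ^ 5) (a 3)
        rw [ha3]
        exact ((Commute.mul_right (h5 0) (h5 1)).mul_right (h5 3)).smul_right i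
    have ho : ∀ (s : Bool) j, Commute (Y ^ 5) (bif s then a j else 1) := fun s j => by
      cases s
      · exact Commute.one_right _
      · exact ha j
    exact ((((ho _ 0).mul_right (ho _ 1)).mul_right (ho _ 2)).mul_right (ho _ 3)).smul_right b)
  have hc0 : c ≠ 0 := fun e0 => by
    rw [e0, zero_smul, hY, ← Units.val_pow_eq_pow_val] at hc
    exact Units.ne_zero _ hc
  obtain ⟨l, hl⟩ := hroot c⁻¹ (inv_ne_zero hc0)
  have hl0 : l ≠ 0 := fun e0 => by
    rw [e0, zero_pow (by norm_num)] at hl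
    exact inv_ne_zero hc0 hl.symm
  set t : H4 F := mkUnit (l • Y) (l⁻¹ • ((y⁻¹ : H4 F) : Q4 F)) (by
    rw [Matrix.smul_mul, Matrix.mul_smul, hyi, smul_smul, mul_inv_cancel₀ hl0, one_smul]) with ht
  refine ⟨t, hG.normalizes D t fun j => ?_, ⟨l * (4 : F)⁻¹, ?_⟩, Units.ext ?_, fun e1 => ?_⟩
  · show Mem R ((l • Y) * a j * (l⁻¹ • ((y⁻¹ : H4 F) : Q4 F)))
    rw [Matrix.smul_mul, Matrix.smul_mul, Matrix.mul_smul, smul_smul, mul_inv_cancel₀ hl0, one_smul]
    obtain ⟨g, hg, hgv⟩ := hG.mem j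
    exact ⟨_, (Subgroup.mem_normalizer_iff.1 hyN g).1 hg, by rw [Units.val_mul, Units.val_mul, hgv]⟩
  · show l • ((4 : F)⁻¹ • Pop e) = _
    rw [smul_smul]
  · rw [Units.val_pow_eq_pow_val]
    show (l • Y) ^ 5 = 1
    rw [smul_pow, hc, smul_smul, hl, inv_mul_cancel₀ hc0, one_smul]
  · have h := congrArg (fun x : H4 F => (x : Q4 F)) e1
    change l • Y = 1 at h
    have hcm : Y * e 0 = e 0 * Y := by
      have hYl : Y = l⁻¹ • (1 : Q4 F) := by rw [← h, inv_smul_smul₀ hl0]
      rw [hYl, Matrix.smul_mul, Matrix.mul_smul, one_mul, mul_one]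
    rw [hye] at hcm
    have h01 : e (0 + 1) = e 0 := y.isUnit.mul_right_cancel hcm
    rw [zero_add] at h01
    have h' := hanti 0 1 (by decide)
    rw [h01, hsq] at h'
    exact one_ne_neg D.two h'

end Gens

/-- change of basis from columns -/
theorem exists_conj_of_cols {t M : Q4 F} {v : Fin 4 → Fin 4 → F} (hv : LinearIndependent F v)
    (h : ∀ k, t *ᵥ v k = ∑ l, M l k • v l) : ∃ g : H4 F, t * (g : Q4 F) = (g : Q4 F) * M := by
  set P : Q4 F := Matrix.of fun x k => v k x with hP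
  have hu : IsUnit P := Matrix.linearIndependent_cols_iff_isUnit.1 hv
  obtain ⟨g, hg⟩ := hu
  refine ⟨g, ?_⟩
  rw [hg]
  ext x k
  have := congrFun (h k) x
  simp only [Matrix.mulVec, dotProduct, Finset.sum_apply, Pi.smul_apply, smul_eq_mul] at this
  simp only [Matrix.mul_apply, hP, Matrix.of_apply]
  rw [this]
  exact Finset.sum_congr rfl fun l _ => mul_comm _ _

/-- correcting the determinant -/
theorem exists_det_one {t M : Q4 F} (hg : ∃ g : H4 F, t * (g : Q4 F) = (g : Q4 F) * M)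
    (hc : ∀ c : F, c ≠ 0 → ∃ C : Q4 F, C * M = M * C ∧ C.det = c) :
    ∃ g ∈ Cfsg.Geo.specialLinear (Fin 4) F, t * (g : Q4 F) = (g : Q4 F) * M := by
  obtain ⟨g, hg⟩ := hg
  have hd : (g : Q4 F).det ≠ 0 := ((Matrix.isUnit_iff_isUnit_det _).1 g.isUnit).ne_zero
  obtain ⟨C, hC, hCd⟩ := hc _ (inv_ne_zero hd)
  refine ⟨g * Matrix.GeneralLinearGroup.mkOfDetNeZero C (by rw [hCd]; exact inv_ne_zero hd),
    MonoidHom.mem_ker.2 (Units.ext ?_), ?_⟩
  · rw [map_mul, Units.val_mul]
    show (g : Q4 F).det * C.det = 1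
    rw [hCd, mul_inv_cancel₀ hd]
  · rw [Units.val_mul]
    show t * ((g : Q4 F) * C) = (g : Q4 F) * C * M
    rw [← mul_assoc, hg, mul_assoc, mul_assoc, hC]

/-- two companion blocks -/
def quad (α β : F) : Q4 F := !![0, β, 0, 0; 1, α, 0, 0; 0, 0, 0, β; 0, 0, 1, α]

/-- one companion block -/
def single (α β : F) : Q4 F := !![0, β, 0, 0; 1, α, 0, 0; 0, 0, 1, 0; 0, 0, 0, 1]

theorem quad_adjust [Finite F] (h2 : (2 : F) ≠ 0) {α β : F} (hr : ∀ x : F, x * x ≠ α * x + β) :
    ∀ c : F, c ≠ 0 → ∃ C : Q4 F, C * quad α β = quad α β * C ∧ C.det = c := by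
  intro c _
  have hne : -β - α * α / 4 ≠ 0 := fun e => hr (α / 2) (by
    have h4 := quarter h2
    field_simp at e ⊢
    linear_combination e)
  obtain ⟨x, y, hxy⟩ := Forms.Bases.exists_sq_add_sq h2 one_ne_zero hne c
  refine ⟨!![x - α * y / 2, β * y, 0, 0; y, x - α * y / 2 + α * y, 0, 0; 0, 0, 1, 0; 0, 0, 0, 1], ?_, ?_⟩
  · ext k l
    fin_cases k <;> fin_cases l <;> simp [quad, Matrix.mul_apply, Fin.sum_univ_four] <;> ring
  · simp [Matrix.det_succ_row_zero, Fin.sum_univ_succ, Fin.succAbove]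
    have h4 := quarter h2
    field_simp at hxy ⊢
    linear_combination hxy

theorem exists_quad {α β : F} (hr : ∀ x : F, x * x ≠ α * x + β) {t : Q4 F} (ht : t * t = α • t + β • (1 : Q4 F)) :
    ∃ g : H4 F, t * (g : Q4 F) = (g : Q4 F) * quad α β := by
  have htt : ∀ w, t *ᵥ (t *ᵥ w) = α • (t *ᵥ w) + β • w := fun w => by
    rw [Matrix.mulVec_mulVec, ht, Matrix.add_mulVec, Matrix.smul_mulVec, Matrix.smul_mulVec, Matrix.one_mulVec]
  set v : Fin 4 → F := Pi.single 0 1 with hv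
  have hv0 : v ≠ 0 := fun e => by simpa [hv] using congrFun e 0
  obtain ⟨w, hw⟩ : ∃ w, w ∉ Submodule.span F (Set.range ![v, t *ᵥ v]) := by
    by_contra hcon
    push Not at hcon
    have h := finrank_range_le_card (R := F) ![v, t *ᵥ v]
    rw [Set.finrank, (eq_top_iff.2 fun x _ => hcon x : Submodule.span F (Set.range ![v, t *ᵥ v]) = ⊤), finrank_top, Fintype.card_fin] at h
    simp at h
  have key : ∀ u, u ≠ 0 → ∀ a b : F, a • u + b • (t *ᵥ u) = 0 → a = 0 ∧ b = 0 := by
    intro u hu a b hab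
    have hb : b = 0 := by
      by_contra hb
      have htu : t *ᵥ u = (-(a / b)) • u := by
        have := congrArg (fun z => b⁻¹ • z) hab
        simp only [smul_add, smul_smul, inv_mul_cancel₀ hb, one_smul, smul_zero] at this
        rw [eq_neg_of_add_eq_zero_right this, neg_smul]
        congr 1
        rw [div_eq_inv_mul]
      have h := htt u
      rw [htu, Matrix.mulVec_smul, htu, smul_smul, smul_smul, ← add_smul] at h
      exact hr _ (smul_left_injective F hu h)
    rw [hb, zero_smul, add_zero] at hab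
    exact ⟨(smul_eq_zero.1 hab).resolve_right hu, hb⟩
  refine exists_conj_of_cols (v := ![v, t *ᵥ v, w, t *ᵥ w]) (Fintype.linearIndependent_iff.2 fun c hc => ?_) fun k => ?_
  · simp [Fin.sum_univ_four] at hc
    have hcd : c 2 = 0 ∧ c 3 = 0 := by
      by_contra hne
      -- `w` would lie in the span
      have hz : c 2 • w + c 3 • (t *ᵥ w) = (-c 0) • v + (-c 1) • (t *ᵥ v) := by
        rw [neg_smul, neg_smul, ← sub_eq_zero, ← hc]
        abel
      have hs : ∀ p q : F, p • v + q • (t *ᵥ v) ∈ Submodule.span F (Set.range ![v, t *ᵥ v]) := fun p q =>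
        Submodule.add_mem _ (Submodule.smul_mem _ _ (Submodule.subset_span ⟨0, rfl⟩))
          (Submodule.smul_mem _ _ (Submodule.subset_span ⟨1, rfl⟩))
      set n := c 2 * c 2 + α * (c 2 * c 3) - β * (c 3 * c 3) with hn
      have hn0 : n ≠ 0 := fun e => by
        by_cases h3 : c 3 = 0
        · exact hne ⟨by simpa [hn, h3] using e, h3⟩
        · refine hr (-(c 2 / c 3)) ?_
          field_simp
          linear_combination e
      have hw' : n • w = (c 2 + α * c 3) • (c 2 • w + c 3 • (t *ᵥ w)) + (-c 3) • (t *ᵥ (c 2 • w + c 3 • (t *ᵥ w))) := by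
        rw [hn, Matrix.mulVec_add, Matrix.mulVec_smul, Matrix.mulVec_smul, htt]
        match_scalars <;> ring
      refine hw ?_
      rw [← inv_smul_smul₀ hn0 w, hw', hz, Matrix.mulVec_add, Matrix.mulVec_smul, Matrix.mulVec_smul, htt]
      refine Submodule.smul_mem _ _ (Submodule.add_mem _ (Submodule.smul_mem _ _ (hs _ _)) (Submodule.smul_mem _ _ ?_))
      rw [show (-c 0) • (t *ᵥ v) + (-c 1) • (α • (t *ᵥ v) + β • v) = (-c 1 * β) • v + (-c 0 + -c 1 * α) • (t *ᵥ v) by
        match_scalars <;> ring]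
      exact hs _ _
    rw [hcd.1, hcd.2, zero_smul, zero_smul, add_zero, add_zero] at hc
    obtain ⟨h0, h1⟩ := key v hv0 _ _ hc
    intro j
    fin_cases j <;> simp [h0, h1, hcd.1, hcd.2]
  · fin_cases k <;> simp [quad, Fin.sum_univ_four, htt, add_comm]

theorem exists_single {α β : F} (hr : ∀ x : F, x * x ≠ α * x + β) {t : Q4 F} {v w₁ w₂ : Fin 4 → F}
    (hv : v ≠ 0) (htv : t *ᵥ (t *ᵥ v) = α • (t *ᵥ v) + β • v) (h1 : t *ᵥ w₁ = w₁) (h2 : t *ᵥ w₂ = w₂)
    (hw : LinearIndependent F ![w₁, w₂]) : ∃ g : H4 F, t * (g : Q4 F) = (g : Q4 F) * single α β := by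
  refine exists_conj_of_cols (v := ![v, t *ᵥ v, w₁, w₂]) (Fintype.linearIndependent_iff.2 fun c hc => ?_) fun k => ?_
  · simp [Fin.sum_univ_four] at hc
    have ht := congrArg (t *ᵥ ·) hc
    simp only [Matrix.mulVec_add, Matrix.mulVec_smul, htv, h1, h2, Matrix.mulVec_zero] at ht
    have hd : (c 1 * β - c 0) • v + (c 0 + c 1 * α - c 1) • (t *ᵥ v) = 0 := by
      rw [show (c 1 * β - c 0) • v + (c 0 + c 1 * α - c 1) • (t *ᵥ v) =
        (c 0 • (t *ᵥ v) + c 1 • (α • (t *ᵥ v) + β • v) + c 2 • w₁ + c 3 • w₂) -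
          (c 0 • v + c 1 • (t *ᵥ v) + c 2 • w₁ + c 3 • w₂) by match_scalars <;> ring, ht, hc, sub_zero]
    have hb : c 0 + c 1 * α - c 1 = 0 := by
      by_contra hb
      have htu : t *ᵥ v = (-((c 1 * β - c 0) / (c 0 + c 1 * α - c 1))) • v := by
        have := congrArg (fun z => (c 0 + c 1 * α - c 1)⁻¹ • z) hd
        simp only [smul_add, smul_smul, inv_mul_cancel₀ hb, one_smul, smul_zero] at this
        rw [eq_neg_of_add_eq_zero_right this, neg_smul]
        congr 1
        rw [div_eq_inv_mul]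
      have h := htv
      rw [htu, Matrix.mulVec_smul, htu, smul_smul, smul_smul, ← add_smul] at h
      exact hr _ (smul_left_injective F hv h)
    rw [hb, zero_smul, add_zero] at hd
    have ha : c 1 * β - c 0 = 0 := (smul_eq_zero.1 hd).resolve_right hv
    have h11 : c 1 = 0 := by
      by_contra h11
      refine hr 1 ?_
      have : c 1 * (α + β - 1) = 0 := by linear_combination hb + ha
      have := (mul_eq_zero.1 this).resolve_left h11
      linear_combination -this
    have h00 : c 0 = 0 := by rw [h11] at ha; simpa using ha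
    rw [h00, h11, zero_smul, zero_smul, zero_add, zero_add] at hc
    have h23 := Fintype.linearIndependent_iff.1 hw ![c 2, c 3] (by simpa [Fin.sum_univ_two] using hc)
    intro j
    fin_cases j
    · exact h00
    · exact h11
    · exact h23 0
    · exact h23 1
  · fin_cases k <;> simp [single, Fin.sum_univ_four, htv, h1, h2, add_comm]

theorem single_adjust (α β : F) : ∀ c : F, c ≠ 0 → ∃ C : Q4 F, C * single α β = single α β * C ∧ C.det = c := by
  intro c _
  refine ⟨Matrix.diagonal ![1, 1, c, 1], ?_, by simp [Matrix.det_diagonal, Fin.prod_univ_four]⟩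
  ext k l
  fin_cases k <;> fin_cases l <;> simp [single, Matrix.mul_apply, Fin.sum_univ_four, Matrix.diagonal]

/-- normal form of an involution -/
theorem exists_diag (h2 : (2 : F) ≠ 0) {u : Q4 F} (hu : u * u = 1) :
    ∃ m ≤ 4, ∃ g : H4 F, u * (g : Q4 F) = (g : Q4 F) * Matrix.diagonal fun k : Fin 4 => if (k : ℕ) < m then 1 else -1 := by
  set f := Matrix.toLin' u with hf
  have hff : ∀ x, f (f x) = x := fun x => by
    rw [hf, Matrix.toLin'_apply, Matrix.toLin'_apply, Matrix.mulVec_mulVec, hu, Matrix.one_mulVec]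
  set P := LinearMap.ker (f - LinearMap.id)
  set M := LinearMap.ker (f + LinearMap.id)
  have hP : ∀ x, x ∈ P → f x = x := fun x hx => sub_eq_zero.1 hx
  have hM : ∀ x, x ∈ M → f x = -x := fun x hx => eq_neg_of_add_eq_zero_left hx
  have hc : IsCompl P M := by
    constructor
    · refine Submodule.disjoint_def.2 fun x hx hx' => ?_
      have h := (hP x hx).symm.trans (hM x hx')
      funext k
      have := congrFun h k
      simp only [Pi.neg_apply] at this
      exact (mul_eq_zero.1 (show (2 : F) * x k = 0 by linear_combination this)).resolve_left h2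
    · refine codisjoint_iff.2 (eq_top_iff.2 fun x _ => Submodule.mem_sup.2
        ⟨(2 : F)⁻¹ • (x + f x), ?_, (2 : F)⁻¹ • (x - f x), ?_, ?_⟩)
      · simp [P, map_smul, hff, smul_add, add_comm]
      · simp [M, map_smul, map_sub, hff, smul_sub]
        abel
      · rw [← smul_add, show x + f x + (x - f x) = (2 : F) • x by rw [two_smul]; abel, inv_smul_smul₀ h2]
  have hsum : finrank F P + finrank F M = 4 := by
    rw [Submodule.finrank_add_eq_of_isCompl hc]; simp
  let e : Fin (finrank F P) ⊕ Fin (finrank F M) ≃ Fin 4 := finSumFinEquiv.trans (finCongr hsum)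
  let b := ((Module.finBasis F P).prod (Module.finBasis F M)).map (Submodule.prodEquivOfIsCompl P M hc)
  refine ⟨finrank F P, by omega, exists_conj_of_cols (v := fun k => b (e.symm k))
    (b.linearIndependent.comp _ e.symm.injective) fun k => ?_⟩
  rw [Finset.sum_eq_single k (fun l _ hl => by rw [Matrix.diagonal_apply_ne _ hl, zero_smul])
    (fun h => absurd (Finset.mem_univ _) h), Matrix.diagonal_apply_eq, ← Matrix.toLin'_apply, ← hf]
  obtain ⟨j, rfl⟩ := e.surjective k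
  rw [Equiv.symm_apply_apply]
  rcases j with j | j
  · rw [if_pos (by simp [e]), one_smul]
    refine hP _ ?_
    simp [b]
  · rw [if_neg (by simp [e]), neg_one_smul]
    refine hM _ ?_
    simp [b]

theorem diag_adjust (m : ℕ) : ∀ c : F, c ≠ 0 → ∃ C : Q4 F,
    C * Matrix.diagonal (fun k : Fin 4 => if (k : ℕ) < m then (1 : F) else -1) =
      Matrix.diagonal (fun k : Fin 4 => if (k : ℕ) < m then (1 : F) else -1) * C ∧ C.det = c := by
  intro c _
  refine ⟨Matrix.diagonal ![c, 1, 1, 1], ?_, by simp [Matrix.det_diagonal, Fin.prod_univ_four]⟩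
  simp [Matrix.diagonal_mul_diagonal, mul_comm]

theorem conj_of_form {t t' M : Q4 F} (hg : ∃ g : H4 F, t * (g : Q4 F) = (g : Q4 F) * M)
    (hg' : ∃ g : H4 F, t' * (g : Q4 F) = (g : Q4 F) * M)
    (hc : ∀ c : F, c ≠ 0 → ∃ C : Q4 F, C * M = M * C ∧ C.det = c) :
    ∃ g ∈ Cfsg.Geo.specialLinear (Fin 4) F, t * (g : Q4 F) = (g : Q4 F) * t' := by
  obtain ⟨g, hg, h⟩ := exists_det_one hg hc
  obtain ⟨g', hg', h'⟩ := exists_det_one hg' hc
  refine ⟨g * g'⁻¹, Subgroup.mul_mem _ hg (Subgroup.inv_mem _ hg'), ?_⟩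
  have h1 : M * ((g'⁻¹ : H4 F) : Q4 F) = ((g'⁻¹ : H4 F) : Q4 F) * t' := by
    have := congrArg (fun Z => ((g'⁻¹ : H4 F) : Q4 F) * Z * ((g'⁻¹ : H4 F) : Q4 F)) h'
    simp only [mul_assoc] at this
    rw [← Units.val_mul g' g'⁻¹, mul_inv_cancel, Units.val_one, mul_one] at this
    rw [← mul_assoc (((g'⁻¹ : H4 F) : Q4 F)) (g' : Q4 F), ← Units.val_mul, inv_mul_cancel, Units.val_one, one_mul]
      at this
    exact this.symm
  rw [Units.val_mul, ← mul_assoc, h, mul_assoc, h1, mul_assoc]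

/-- orbit sums vanish without fixed vectors -/
theorem sum_pow_zero {g : H4 F} (hg : g ^ 5 = 1) (hfix : ∀ w, (g : Q4 F) *ᵥ w = w → w = 0) (v : Fin 4 → F) :
    ∑ j : Fin 5, ((g ^ (j : ℕ) : H4 F) : Q4 F) *ᵥ v = 0 := by
  refine hfix _ ?_
  rw [Fin.sum_univ_five]
  simp only [Fin.val_zero, Fin.val_one, Fin.val_two, show ((3 : Fin 5) : ℕ) = 3 from rfl,
    show ((4 : Fin 5) : ℕ) = 4 from rfl]
  simp only [Matrix.mulVec_add, Matrix.mulVec_mulVec, ← Units.val_mul, ← pow_succ', Nat.reduceAdd, hg]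
  simp only [pow_zero]
  abel

/-- fixed-point-free elements of order five are conjugate into each subgroup of order five -/
theorem conj_five [Finite F] (h5 : (5 : F) ≠ 0) (G : Subgroup (H4 F))
    (hfix : ∀ g ∈ G, g ^ 5 = 1 → g ≠ 1 → ∀ w, (g : Q4 F) *ᵥ w = w → w = 0) {t y : H4 F} (ht : t ∈ G) (hy : y ∈ G)
    (ht5 : t ^ 5 = 1) (hy5 : y ^ 5 = 1) (ht1 : t ≠ 1) (hy1 : y ≠ 1) :
    ∃ g ∈ G, g⁻¹ * t * g ∈ Subgroup.zpowers y := by
  classical
  haveI : Fact (Nat.Prime 5) := ⟨Nat.prime_five⟩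
  let t' : G := ⟨t, ht⟩
  let y' : G := ⟨y, hy⟩
  have ho : ∀ {z : G}, z ^ 5 = 1 → z ≠ 1 → IsPGroup 5 (Subgroup.zpowers z) := fun {z} hz hz1 =>
    IsPGroup.of_card (n := 1) (by rw [Nat.card_zpowers, orderOf_eq_prime hz hz1, pow_one])
  obtain ⟨P, hP⟩ := (ho (z := y') (Subtype.ext hy5) fun h => hy1 (congrArg Subtype.val h)).exists_le_sylow
  obtain ⟨Q, hQ⟩ := (ho (z := t') (Subtype.ext ht5) fun h => ht1 (congrArg Subtype.val h)).exists_le_sylow
  obtain ⟨g, hg⟩ := MulAction.exists_smul_eq G Q P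
  have hyP : y' ∈ P.toSubgroup := hP (Subgroup.mem_zpowers y')
  have htP : g * t' * g⁻¹ ∈ P.toSubgroup := by
    rw [← hg]
    exact ⟨t', hQ (Subgroup.mem_zpowers t'), rfl⟩
  haveI : Nontrivial P.toSubgroup :=
    ⟨⟨⟨y', hyP⟩, 1, fun h => hy1 (congrArg (fun a : P.toSubgroup => ((a : G) : H4 F)) h)⟩⟩
  haveI := IsPGroup.center_nontrivial P.isPGroup'
  obtain ⟨n, hn, hcard⟩ := ((P.isPGroup'.to_subgroup (Subgroup.center P.toSubgroup)).nontrivial_iff_card).1 inferInstance
  obtain ⟨z, hz⟩ := exists_prime_orderOf_dvd_card' (G := Subgroup.center P.toSubgroup) 5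
    (hcard ▸ dvd_pow_self 5 hn.ne')
  set Z : H4 F := (((z : P.toSubgroup) : G) : H4 F) with hZ
  have hZG : Z ∈ G := ((z : P.toSubgroup) : G).2
  have hZ5 : Z ^ 5 = 1 := by
    have h := pow_orderOf_eq_one z
    rw [hz] at h
    exact congrArg (fun a : Subgroup.center P.toSubgroup => (((a : P.toSubgroup) : G) : H4 F)) h
  have hZ1 : Z ≠ 1 := fun h => by
    have h' : z = 1 := Subtype.ext (Subtype.ext (Subtype.ext h))
    rw [h', orderOf_one] at hz
    omega
  have key : ∀ s : P.toSubgroup, ((s : G) : H4 F) ^ 5 = 1 → ((s : G) : H4 F) ∈ Subgroup.zpowers Z := by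
    intro s hs
    set S : H4 F := ((s : G) : H4 F) with hS
    have hc : Commute S Z :=
      congrArg (fun a : P.toSubgroup => ((a : G) : H4 F)) (Subgroup.mem_center_iff.1 z.2 s)
    by_contra hcon
    have hsum : ∀ v, ∑ k : Fin 5, ∑ j : Fin 5, (((S * Z ^ (k : ℕ)) ^ (j : ℕ) : H4 F) : Q4 F) *ᵥ v = 0 := fun v =>
      Finset.sum_eq_zero fun k _ => by
        have h55 : (S * Z ^ (k : ℕ)) ^ 5 = 1 := by
          rw [(hc.pow_right _).mul_pow, hs, ← pow_mul, mul_comm, pow_mul, hZ5, one_pow, one_mul]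
        refine sum_pow_zero h55 (hfix _ (G.mul_mem (s : G).2 (G.pow_mem hZG _)) h55 fun h => hcon ?_) v
        rw [eq_inv_of_mul_eq_one_left h]
        exact Subgroup.inv_mem _ (Subgroup.pow_mem _ (Subgroup.mem_zpowers Z) _)
    have hzero : ∀ v : Fin 4 → F, v = 0 := fun v => by
      have h := hsum v
      rw [Finset.sum_comm, Fin.sum_univ_succ, Finset.sum_eq_zero (s := Finset.univ (α := Fin 4)) fun j _ => ?_] at h
      · simp only [Fin.val_zero, pow_zero, Units.val_one, Matrix.one_mulVec, Finset.sum_const, Finset.card_univ,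
          Fintype.card_fin, add_zero] at h
        funext x
        have hx := congrFun h x
        simp only [Pi.smul_apply, Pi.zero_apply, nsmul_eq_mul, Nat.cast_ofNat, mul_eq_zero] at hx
        exact hx.resolve_left h5
      · have hZj : Z ^ ((j.succ : Fin 5) : ℕ) ≠ 1 := fun e => by
          have hd := orderOf_dvd_of_pow_eq_one e
          rw [orderOf_eq_prime hZ5 hZ1] at hd
          have := Nat.le_of_dvd (Nat.succ_pos _) hd
          have := j.succ.2
          omega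
        have hj5 : (Z ^ ((j.succ : Fin 5) : ℕ)) ^ 5 = 1 := by rw [← pow_mul, mul_comm, pow_mul, hZ5, one_pow]
        have h0 := sum_pow_zero hj5 (hfix _ (G.pow_mem hZG _) hj5 hZj) v
        have h1 := congrArg ((((S ^ ((j.succ : Fin 5) : ℕ) : H4 F)) : Q4 F) *ᵥ ·) h0
        simp only [Matrix.mulVec_sum, Matrix.mulVec_zero, Matrix.mulVec_mulVec, ← Units.val_mul] at h1
        refine Eq.trans (Finset.sum_congr rfl fun k _ => ?_) h1
        rw [(hc.pow_right _).mul_pow, ← pow_mul, ← pow_mul, mul_comm (k : ℕ)]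
    have h1 := congrFun (hzero (Pi.single 0 1)) 0
    simp at h1
  have hyz := key ⟨y', hyP⟩ hy5
  have htz := key ⟨g * t' * g⁻¹, htP⟩ (by
    show ((g : H4 F) * t * (g : H4 F)⁻¹) ^ 5 = 1
    rw [conj_pow, ht5, mul_one, mul_inv_cancel])
  haveI : Finite (Subgroup.zpowers Z) := inferInstance
  have heq : Subgroup.zpowers y = Subgroup.zpowers Z := by
    refine Subgroup.eq_of_le_of_card_ge (Subgroup.zpowers_le.2 hyz) ?_
    rw [Nat.card_zpowers, Nat.card_zpowers, orderOf_eq_prime hy5 hy1, orderOf_eq_prime hZ5 hZ1]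
  refine ⟨(g⁻¹ : G), (g⁻¹ : G).2, ?_⟩
  rw [heq]
  simpa using htz

end Cfsg.Agent.SympType4.Scal
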