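import Cfsg.Prelude.Def_GeometricClasses
import Cfsg.Agent.InvChar.Symplectic
import Cfsg.Agent.S5976

/-!
Absolutely irreducible 2-groups of symplectic type of order 32 and minus type in `Sp_4`: five pairwise
anticommuting involutions, and the monomials in them.
-/

set_option autoImplicit false

namespace Cfsg.Agent.SympType4

open Cfsg Matrix Module

abbrev I4 := Fin 2 ⊕ Fin 2

variable {F : Type*} [Field F]

abbrev M4 (F : Type*) := Matrix I4 I4 F

abbrev G4 (F : Type*) [Field F] := GL I4 F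

/-- equality up to sign -/
def Sim (g h : G4 F) : Prop := g = h ∨ g = -h

theorem Sim.symm {g h : G4 F} (e : Sim g h) : Sim h g := by
  rcases e with rfl | rfl
  · exact Or.inl rfl
  · exact Or.inr (neg_neg h).symm

theorem Sim.trans {g h k : G4 F} (e : Sim g h) (e' : Sim h k) : Sim g k := by
  rcases e with rfl | rfl <;> rcases e' with rfl | rfl
  · exact Or.inl rfl
  · exact Or.inr rfl
  · exact Or.inr rfl
  · exact Or.inl (neg_neg k)

theorem Sim.conj {g h : G4 F} (t : G4 F) (e : Sim g h) : Sim (t * g * t⁻¹) (t * h * t⁻¹) := by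
  rcases e with rfl | rfl
  · exact Or.inl rfl
  · exact Or.inr (by simp [mul_neg, neg_mul])

theorem one_ne_neg (h2 : (2 : F) ≠ 0) (g : G4 F) : g ≠ -g := by
  intro h
  have h1 : (1 : G4 F) = -1 := mul_left_cancel (a := g) (by rw [mul_one, mul_neg, mul_one]; exact h)
  have h3 := congrFun (congrFun (congrArg (fun x : G4 F => (x : M4 F)) h1) (Sum.inl 0)) (Sum.inl 0)
  simp at h3
  exact h2 (by linear_combination h3)

/-- the consequences of the symplectic type -/
structure Data (R : Subgroup (G4 F)) : Prop where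
  two : (2 : F) ≠ 0
  neg_mem : (-1 : G4 F) ∈ R
  comm : ∀ g ∈ R, ∀ h ∈ R, Sim (g * h) (h * g)
  sq : ∀ g ∈ R, Sim (g * g) 1
  scal : ∀ X : M4 F, (∀ g ∈ R, X * (g : M4 F) = (g : M4 F) * X) → ∃ c : F, X = c • (1 : M4 F)
  le_sp : R ≤ Cfsg.spGL 2 F
  card : Nat.card R = 32
  minus : Cfsg.Geo.IsOfMinusType 2 R

theorem neg_mem_sp : (-1 : G4 F) ∈ Cfsg.spGL 2 F := fun u v => by
  show Cfsg.sympForm 2 F ((-1 : M4 F) *ᵥ u) ((-1 : M4 F) *ᵥ v) = _
  simp [Cfsg.sympForm, Matrix.neg_mulVec, Matrix.mulVec_neg]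

theorem scalar_sp {g : G4 F} (hg : g ∈ Cfsg.spGL 2 F) {z : F} (h : (g : M4 F) = z • (1 : M4 F)) :
    g = 1 ∨ g = -1 := by
  have h1 : Cfsg.sympForm 2 F ((g : M4 F) *ᵥ Pi.single (Sum.inr 0) 1) ((g : M4 F) *ᵥ Pi.single (Sum.inl 0) 1) =
      Cfsg.sympForm 2 F (Pi.single (Sum.inr 0) 1) (Pi.single (Sum.inl 0) 1) := hg _ _
  rw [h, Matrix.smul_mulVec, Matrix.smul_mulVec, Matrix.one_mulVec, Matrix.one_mulVec,
    ← Forms.SympStd.sympB_apply, ← Forms.SympStd.sympB_apply, map_smul, map_smul, LinearMap.smul_apply,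
    Forms.SympStd.sympB_apply, Forms.SympStd.sympForm_inr_inl, if_pos rfl, smul_eq_mul, smul_eq_mul, mul_one] at h1
  rcases mul_self_eq_one_iff.1 h1 with rfl | rfl
  · exact Or.inl (Units.ext (by rw [h, one_smul]; rfl))
  · exact Or.inr (Units.ext (by rw [h, neg_one_smul]; rfl))

theorem mkData [Finite F] (h2 : (2 : F) ≠ 0) {R : Subgroup (G4 F)} (hRs : Cfsg.Geo.IsSymplecticTypeGroup 2 R)
    (hRi : Cfsg.Geo.ActsAbsolutelyIrreducibly (Cfsg.Geo.matrixSet R)) (hRf : R ≤ Cfsg.spGL 2 F)
    (hR5 : Nat.card R = 2 ^ 5) (hRZ : Nat.card (Subgroup.center R) = 2) (hRm : Cfsg.Geo.IsOfMinusType 2 R) :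
    Data R := by
  have hscal : ∀ X : M4 F, (∀ g ∈ R, X * (g : M4 F) = (g : M4 F) * X) → ∃ c : F, X = c • (1 : M4 F) := fun X hX =>
    hRi.2 X (by rintro _ ⟨g, hg, rfl⟩; exact hX g hg)
  have hcen : ∀ z ∈ Subgroup.center R, (z : G4 F) = 1 ∨ (z : G4 F) = -1 := fun z hz => by
    obtain ⟨c, hc⟩ := hscal (z : G4 F) fun g hg => by
      rw [← Units.val_mul, ← Units.val_mul]
      exact congrArg (fun x : R => ((x : G4 F) : M4 F)) (Subgroup.mem_center_iff.1 hz ⟨g, hg⟩).symm
    exact scalar_sp (hRf z.2) hc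
  obtain ⟨z, hz, hz1⟩ : ∃ z ∈ Subgroup.center R, (z : G4 F) = -1 := by
    obtain ⟨a, b, hab, -⟩ := Nat.card_eq_two_iff.1 hRZ
    rcases hcen a a.2 with ha | ha
    · rcases hcen b b.2 with hb | hb
      · exact absurd (Subtype.ext (Subtype.ext (ha.trans hb.symm))) hab
      · exact ⟨b, b.2, hb⟩
    · exact ⟨a, a.2, ha⟩
  have hzo : orderOf z = 2 := by
    refine orderOf_eq_prime (Subtype.ext ?_) fun e => ?_
    · rw [Subgroup.coe_pow, hz1, neg_one_sq, Subgroup.coe_one]
    · rw [e, Subgroup.coe_one] at hz1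
      exact one_ne_neg h2 1 hz1
  have h4 : ∀ a : R, a ^ 4 = 1 := fun a => by
    have h := Monoid.pow_exponent_eq_one a
    rwa [hRs.exponent_eq, show 2 * Nat.gcd 2 2 = 4 from rfl] at h
  have hfacts := InvChar.Symplectic.commutator_facts (T := R) ⟨hRs.pGroup, hRs.cyclic_of_characteristic⟩ h4 hz hzo
  have hcomm : ∀ g ∈ R, ∀ h ∈ R, Sim (g * h) (h * g) := fun g hg h hh => by
    rcases hfacts ⟨g, hg⟩ ⟨h, hh⟩ with e | e
    · have e' := congrArg (fun x : R => (x : G4 F)) e
      simp only [Subgroup.coe_mul, Subgroup.coe_inv, Subgroup.coe_one] at e'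
      left
      calc g * h = (g * h * g⁻¹ * h⁻¹) * (h * g) := by group
        _ = h * g := by rw [e', one_mul]
    · have e' := congrArg (fun x : R => (x : G4 F)) e
      simp only [Subgroup.coe_mul, Subgroup.coe_inv, hz1] at e'
      right
      calc g * h = (g * h * g⁻¹ * h⁻¹) * (h * g) := by group
        _ = -(h * g) := by rw [e', neg_one_mul]
  refine ⟨h2, hz1 ▸ z.2, hcomm, fun g hg => ?_, hscal, hRf, by rw [hR5]; norm_num, hRm⟩
  obtain ⟨c, hc⟩ := hscal ((g * g : G4 F) : M4 F) fun h hh => by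
    rw [← Units.val_mul, ← Units.val_mul]
    congr 1
    rcases hcomm g hg h hh with e | e
    · rw [mul_assoc, e, ← mul_assoc, e, mul_assoc]
    · rw [mul_assoc, e, mul_neg, ← mul_assoc, e, neg_mul, neg_neg, mul_assoc]
  exact scalar_sp (hRf (R.mul_mem hg hg)) hc

variable {R : Subgroup (G4 F)}

theorem Data.neg' (D : Data R) {g : G4 F} (hg : g ∈ R) : -g ∈ R := by
  rw [← neg_one_mul]
  exact R.mul_mem D.neg_mem hg

theorem Data.trace_zero (D : Data R) {g : G4 F} (hg : g ∈ R) (h1 : ¬ Sim g 1) : Matrix.trace (g : M4 F) = 0 := by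
  obtain ⟨h, hh, hne⟩ : ∃ h ∈ R, g * h ≠ h * g := by
    by_contra hcon
    push Not at hcon
    obtain ⟨c, hc⟩ := D.scal (g : M4 F) fun h hh => by rw [← Units.val_mul, ← Units.val_mul, hcon h hh]
    exact h1 (scalar_sp (D.le_sp hg) hc)
  have e : h * g * h⁻¹ = -g := by
    rw [(D.comm h hh g hg).resolve_left fun e => hne e.symm, neg_mul, mul_inv_cancel_right]
  have h3 : Matrix.trace (-(g : M4 F)) = Matrix.trace (g : M4 F) := by
    rw [← Units.val_neg, ← e, Units.val_mul, Units.val_mul, Matrix.trace_units_conj]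
  rw [Matrix.trace_neg] at h3
  exact (mul_eq_zero.1 (show (2 : F) * Matrix.trace (g : M4 F) = 0 by linear_combination -h3)).resolve_left D.two

theorem four_ne (h2 : (2 : F) ≠ 0) : (4 : F) ≠ 0 := by
  rw [show (4 : F) = 2 * 2 by norm_num]
  exact mul_ne_zero h2 h2

theorem Data.indep (D : Data R) {κ : Type*} (m : κ → G4 F) (hm : ∀ k, m k ∈ R)
    (hinj : ∀ k l, Sim (m k) (m l) → k = l) : LinearIndependent F fun k => (m k : M4 F) := by
  classical
  rw [linearIndependent_iff']
  intro s c hc k hk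
  have h1 := congrArg (fun X : M4 F => Matrix.trace (((m k)⁻¹ : G4 F) * X : M4 F)) hc
  simp only [Finset.mul_sum, Matrix.trace_sum, Matrix.mul_smul, Matrix.trace_smul, mul_zero, Matrix.trace_zero,
    ← Units.val_mul] at h1
  rw [Finset.sum_eq_single k] at h1
  · simp only [inv_mul_cancel, Units.val_one, Matrix.trace_one, smul_eq_mul] at h1
    refine (mul_eq_zero.1 h1).resolve_right ?_
    simpa using four_ne D.two
  · intro l _ hl
    rw [D.trace_zero (R.mul_mem (R.inv_mem (hm k)) (hm l)) fun e => hl ?_, smul_zero]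
    refine hinj l k ?_
    rcases e with e | e
    · left
      rw [← mul_inv_cancel_left (m k) (m l), e, mul_one]
    · right
      rw [← mul_inv_cancel_left (m k) (m l), e, mul_neg, mul_one]
  · exact fun h => absurd hk h

/-- the form entries of a matrix -/
noncomputable def entry (X : M4 F) (a b : I4) : F :=
  Forms.SympStd.sympB 2 F (X *ᵥ Pi.single a 1) (Pi.single b 1)

theorem entry_zero {X : M4 F} (h : ∀ a b, entry X a b = 0) : X = 0 := by
  refine Matrix.ext_of_mulVec_single fun a => ?_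
  rw [Matrix.zero_mulVec]
  refine Forms.SympStd.sympB_nondegenerate.1 _ fun v => ?_
  have hb : Forms.SympStd.sympB 2 F (X *ᵥ Pi.single a 1) = 0 :=
    (Pi.basisFun F I4).ext fun b => by rw [Pi.basisFun_apply]; exact h a b
  rw [hb, LinearMap.zero_apply]

/-- the adjoint eigenspaces -/
def adj (ε : F) : Submodule F (M4 F) where
  carrier := {X | ∀ u v, Forms.SympStd.sympB 2 F (X *ᵥ u) v = ε * Forms.SympStd.sympB 2 F u (X *ᵥ v)}
  zero_mem' := fun u v => by simp
  add_mem' := fun {X Y} hX hY u v => by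
    rw [Matrix.add_mulVec, Matrix.add_mulVec, map_add, LinearMap.add_apply, map_add, hX u v, hY u v, mul_add]
  smul_mem' := fun c X hX u v => by
    rw [Matrix.smul_mulVec, Matrix.smul_mulVec, map_smul, LinearMap.smul_apply, map_smul, hX u v, smul_eq_mul,
      smul_eq_mul]
    ring

theorem adj_entry {ε : F} {X : M4 F} (hX : X ∈ adj ε) (a b : I4) : entry X b a = -ε * entry X a b := by
  have h := hX (Pi.single b 1) (Pi.single a 1)
  rw [entry, entry, h, ← LinearMap.IsAlt.neg (B := Forms.SympStd.sympB 2 F) Forms.SympStd.sympB_isAlt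
    (X *ᵥ Pi.single a 1) (Pi.single b 1)]
  ring

theorem finrank_adj_one (h2 : (2 : F) ≠ 0) : finrank F ↥(adj (1 : F)) ≤ 6 := by
  let P : Fin 6 → I4 × I4 := ![(Sum.inl 0, Sum.inl 1), (Sum.inl 0, Sum.inr 0), (Sum.inl 0, Sum.inr 1),
    (Sum.inl 1, Sum.inr 0), (Sum.inl 1, Sum.inr 1), (Sum.inr 0, Sum.inr 1)]
  let Φ : ↥(adj (1 : F)) →ₗ[F] (Fin 6 → F) :=
    { toFun := fun X k => entry (X : M4 F) (P k).1 (P k).2
      map_add' := fun X Y => funext fun k => by
        show entry ((X : M4 F) + (Y : M4 F)) _ _ = _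
        rw [entry, Matrix.add_mulVec, map_add, LinearMap.add_apply]
        rfl
      map_smul' := fun c X => funext fun k => by
        show entry (c • (X : M4 F)) _ _ = _
        rw [entry, Matrix.smul_mulVec, map_smul, LinearMap.smul_apply]
        rfl }
  have hΦ : Function.Injective Φ := (injective_iff_map_eq_zero Φ).2 fun X hX => Subtype.ext (entry_zero fun a b => by
    have hd : ∀ a, entry (X : M4 F) a a = 0 := fun a => by
      have h := adj_entry X.2 a a
      exact (mul_eq_zero.1 (show (2 : F) * entry (X : M4 F) a a = 0 by linear_combination h)).resolve_left h2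
    have hs : ∀ a b, entry (X : M4 F) a b = 0 → entry (X : M4 F) b a = 0 := fun a b h => by
      rw [adj_entry X.2 a b, h, mul_zero]
    have h0 := congrFun hX 0
    have h1 := congrFun hX 1
    have h2 := congrFun hX 2
    have h3 := congrFun hX 3
    have h4 := congrFun hX 4
    have h5 := congrFun hX 5
    simp [Φ, P] at h0 h1 h2 h3 h4 h5
    rcases a with a | a <;> rcases b with b | b <;> fin_cases a <;> fin_cases b <;>
      first
        | exact hd _
        | assumption
        | exact hs _ _ h0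
        | exact hs _ _ h1
        | exact hs _ _ h2
        | exact hs _ _ h3
        | exact hs _ _ h4
        | exact hs _ _ h5)
  have h := LinearMap.finrank_le_finrank_of_injective hΦ
  simpa using h

theorem finrank_adj_neg : finrank F ↥(adj (-1 : F)) ≤ 10 := by
  let P : Fin 10 → I4 × I4 := ![(Sum.inl 0, Sum.inl 1), (Sum.inl 0, Sum.inr 0), (Sum.inl 0, Sum.inr 1),
    (Sum.inl 1, Sum.inr 0), (Sum.inl 1, Sum.inr 1), (Sum.inr 0, Sum.inr 1), (Sum.inl 0, Sum.inl 0),
    (Sum.inl 1, Sum.inl 1), (Sum.inr 0, Sum.inr 0), (Sum.inr 1, Sum.inr 1)]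
  let Φ : ↥(adj (-1 : F)) →ₗ[F] (Fin 10 → F) :=
    { toFun := fun X k => entry (X : M4 F) (P k).1 (P k).2
      map_add' := fun X Y => funext fun k => by
        show entry ((X : M4 F) + (Y : M4 F)) _ _ = _
        rw [entry, Matrix.add_mulVec, map_add, LinearMap.add_apply]
        rfl
      map_smul' := fun c X => funext fun k => by
        show entry (c • (X : M4 F)) _ _ = _
        rw [entry, Matrix.smul_mulVec, map_smul, LinearMap.smul_apply]
        rfl }
  have hΦ : Function.Injective Φ := (injective_iff_map_eq_zero Φ).2 fun X hX => Subtype.ext (entry_zero fun a b => by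
    have hs : ∀ a b, entry (X : M4 F) a b = 0 → entry (X : M4 F) b a = 0 := fun a b h => by
      rw [adj_entry X.2 a b, h, mul_zero]
    have h0 := congrFun hX 0
    have h1 := congrFun hX 1
    have h2 := congrFun hX 2
    have h3 := congrFun hX 3
    have h4 := congrFun hX 4
    have h5 := congrFun hX 5
    have h6 := congrFun hX 6
    have h7 := congrFun hX 7
    have h8 := congrFun hX 8
    have h9 := congrFun hX 9
    simp [Φ, P] at h0 h1 h2 h3 h4 h5 h6 h7 h8 h9
    rcases a with a | a <;> rcases b with b | b <;> fin_cases a <;> fin_cases b <;>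
      first
        | assumption
        | exact hs _ _ h0
        | exact hs _ _ h1
        | exact hs _ _ h2
        | exact hs _ _ h3
        | exact hs _ _ h4
        | exact hs _ _ h5)
  have h := LinearMap.finrank_le_finrank_of_injective hΦ
  simpa using h

theorem mem_adj_of_sq {g : G4 F} (hg : g ∈ Cfsg.spGL 2 F) {ε : F} (hε : ε * ε = 1)
    (h : ((g * g : G4 F) : M4 F) = ε • (1 : M4 F)) : (g : M4 F) ∈ adj ε := fun u v => by
  have h1 : Cfsg.sympForm 2 F ((g : M4 F) *ᵥ u) ((g : M4 F) *ᵥ ((g : M4 F) *ᵥ v)) =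
      Cfsg.sympForm 2 F u ((g : M4 F) *ᵥ v) := hg _ _
  rw [Matrix.mulVec_mulVec, ← Units.val_mul, h, Matrix.smul_mulVec, Matrix.one_mulVec,
    ← Forms.SympStd.sympB_apply, ← Forms.SympStd.sympB_apply, map_smul, smul_eq_mul] at h1
  linear_combination ε * h1 - Forms.SympStd.sympB 2 F ((g : M4 F) *ᵥ u) v * hε

/-- five pairwise anticommuting involutions -/
structure Fam (R : Subgroup (G4 F)) (e : Fin 5 → G4 F) : Prop where
  mem : ∀ i, e i ∈ R
  sq : ∀ i, e i * e i = 1
  anti : ∀ i j, i ≠ j → e i * e j = -(e j * e i)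

/-- representatives of the classes up to sign -/
theorem Data.exists_reps (D : Data R) :
    ∃ m : Fin 16 → G4 F, (∀ k, m k ∈ R) ∧ (∀ k l, Sim (m k) (m l) → k = l) ∧ ∀ g ∈ R, ∃ k, Sim g (m k) := by
  classical
  haveI : Finite R := Nat.finite_of_card_ne_zero (by rw [D.card]; norm_num)
  let S : Setoid R :=
    { r := fun a b => Sim (a : G4 F) b
      iseqv := ⟨fun _ => Or.inl rfl, Sim.symm, Sim.trans⟩ }
  haveI : Finite (Quotient S) := Finite.of_surjective (Quotient.mk S) Quotient.mk_surjective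
  let f : Bool × Quotient S → R := fun p => if p.1 then ⟨-(p.2.out : G4 F), D.neg' p.2.out.2⟩ else p.2.out
  have hf : Function.Bijective f := by
    constructor
    · rintro ⟨s, a⟩ ⟨s', b⟩ h
      have hS : Sim (a.out : G4 F) (b.out : G4 F) := by
        have h' := congrArg (fun x : R => (x : G4 F)) h
        cases s <;> cases s' <;> simp [f] at h'
        · exact Or.inl (by rw [h'])
        · exact Or.inr h'
        · exact Or.inr (neg_eq_iff_eq_neg.1 h')
        · exact Or.inl (by rw [h'])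
      obtain rfl : a = b := by
        rw [← Quotient.out_eq a, ← Quotient.out_eq b]
        exact Quotient.sound hS
      cases s <;> cases s'
      · rfl
      · exact absurd (congrArg (fun x : R => (x : G4 F)) h) (by simpa [f] using one_ne_neg D.two (a.out : G4 F))
      · exact absurd (congrArg (fun x : R => (x : G4 F)) h).symm (by simpa [f] using one_ne_neg D.two (a.out : G4 F))
      · rfl
    · intro g
      have h : Sim ((⟦g⟧ : Quotient S).out : G4 F) g := Quotient.mk_out (s := S) g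
      rcases h with h | h
      · exact ⟨(false, ⟦g⟧), Subtype.ext (by simpa [f] using h)⟩
      · exact ⟨(true, ⟦g⟧), Subtype.ext (by simp [f, h])⟩
  have hc := Nat.card_congr (Equiv.ofBijective f hf)
  rw [Nat.card_prod, D.card, Nat.card_eq_fintype_card, Fintype.card_bool] at hc
  let E : Quotient S ≃ Fin 16 := Finite.equivFinOfCardEq (by omega)
  refine ⟨fun k => ((E.symm k).out : G4 F), fun k => (E.symm k).out.2, fun k l h => ?_, fun g hg =>
    ⟨E ⟦⟨g, hg⟩⟧, ?_⟩⟩
  · refine E.symm.injective ?_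
    rw [← Quotient.out_eq (E.symm k), ← Quotient.out_eq (E.symm l)]
    exact Quotient.sound h
  · simp only [Equiv.symm_apply_apply]
    exact Sim.symm (Quotient.mk_out (s := S) (⟨g, hg⟩ : R))

theorem Data.exists_fam [Finite F] (D : Data R) : ∃ e, Fam R e := by
  classical
  obtain ⟨m, hm, hmi, hmc⟩ := D.exists_reps
  have hcard : ∀ {ε : F} (K : Finset (Fin 16)), (∀ k ∈ K, (m k : M4 F) ∈ adj ε) → K.card ≤ finrank F ↥(adj ε) := by
    intro ε K hK
    have hli : LinearIndependent F fun k : K => (⟨(m k.1 : M4 F), hK k.1 k.2⟩ : adj ε) :=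
      LinearIndependent.of_comp (adj ε).subtype (D.indep (fun k : K => m k.1) (fun k => hm _)
        fun k l h => Subtype.ext (hmi _ _ h))
    simpa using hli.fintype_card_le_finrank
  set K := Finset.univ.filter fun k => m k * m k = 1 with hK
  have h1 : K.card ≤ 6 := (hcard (ε := 1) K fun k hk => mem_adj_of_sq (D.le_sp (hm k)) (one_mul 1)
    (by rw [(Finset.mem_filter.1 hk).2, one_smul]; rfl)).trans (finrank_adj_one D.two)
  have h2 : Kᶜ.card ≤ 10 := (hcard (ε := -1) Kᶜ fun k hk => mem_adj_of_sq (D.le_sp (hm k)) (by ring)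
    (by
      rw [(D.sq _ (hm k)).resolve_left fun h => (Finset.mem_compl.1 hk) (Finset.mem_filter.2 ⟨Finset.mem_univ _, h⟩),
        neg_one_smul]
      rfl)).trans finrank_adj_neg
  rw [Finset.card_compl, Fintype.card_fin] at h2
  obtain ⟨k₁, hk₁⟩ := hmc 1 R.one_mem
  have hk₁K : k₁ ∈ K := Finset.mem_filter.2 ⟨Finset.mem_univ _, by
    rcases hk₁.symm with h | h <;> rw [h] <;> simp⟩
  have hE : (K.erase k₁).card = 5 := by rw [Finset.card_erase_of_mem hk₁K]; omega
  let o := (K.erase k₁).orderEmbOfFin hE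
  have ho : ∀ i, o i ∈ K.erase k₁ := Finset.orderEmbOfFin_mem _ _
  have hsq : ∀ i, m (o i) * m (o i) = 1 := fun i => (Finset.mem_filter.1 (Finset.mem_of_mem_erase (ho i))).2
  have h1n : ∀ i, ¬ Sim (m (o i)) 1 := fun i h =>
    (Finset.ne_of_mem_erase (ho i)) (hmi _ _ (h.trans hk₁))
  refine ⟨fun i => m (o i), fun i => hm _, hsq, fun i j hij => ?_⟩
  refine (D.comm _ (hm _) _ (hm _)).resolve_left fun hab => ?_
  set a := m (o i) with ha
  set b := m (o j) with hb
  have hne : ¬ Sim a b := fun h => hij (o.injective (hmi _ _ h))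
  have hc : Commute a b := hab
  let A₀ : Subgroup R := Subgroup.closure {⟨-1, D.neg_mem⟩, ⟨a, hm _⟩, ⟨b, hm _⟩}
  have hpair : ∀ x ∈ ({⟨-1, D.neg_mem⟩, ⟨a, hm _⟩, ⟨b, hm _⟩} : Set R),
      ∀ y ∈ ({⟨-1, D.neg_mem⟩, ⟨a, hm _⟩, ⟨b, hm _⟩} : Set R), x * y = y * x := by
    intro x hx y hy
    refine Subtype.ext ?_
    rcases hx with rfl | rfl | rfl <;> rcases hy with rfl | rfl | rfl <;>
      simp [hc.eq, mul_neg, neg_mul]
  haveI hA : IsMulCommutative A₀ := Subgroup.isMulCommutative_closure hpair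
  have hone : ∀ x ∈ A₀, x * x = 1 := by
    intro x hx
    induction hx using Subgroup.closure_induction with
    | mem x hx =>
      refine Subtype.ext ?_
      rcases hx with rfl | rfl | rfl
      · simp
      · exact hsq i
      · exact hsq j
    | one => exact one_mul 1
    | mul x y hx hy ihx ihy =>
      have hxy : y * x = x * y := congrArg Subtype.val (hA.is_comm.comm (⟨y, hy⟩ : A₀) ⟨x, hx⟩)
      rw [mul_assoc, ← mul_assoc y x y, hxy, mul_assoc x y y, ihy, mul_one, ihx]
    | inv x _ ihx => rw [← _root_.mul_inv_rev, ihx, inv_one]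
  have h8 := D.minus A₀ hA hone
  haveI : Finite R := Nat.finite_of_card_ne_zero (by rw [D.card]; norm_num)
  let four : Fin 4 → G4 F := ![1, a, b, a * b]
  have hfour : ∀ k, ∃ h : four k ∈ R, (⟨four k, h⟩ : R) ∈ A₀ := by
    have hA' : (⟨a, hm _⟩ : R) ∈ A₀ := Subgroup.subset_closure (Or.inr (Or.inl rfl))
    have hB' : (⟨b, hm _⟩ : R) ∈ A₀ := Subgroup.subset_closure (Or.inr (Or.inr rfl))
    intro k
    fin_cases k
    · exact ⟨R.one_mem, A₀.one_mem⟩
    · exact ⟨hm _, hA'⟩
    · exact ⟨hm _, hB'⟩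
    · exact ⟨R.mul_mem (hm _) (hm _), A₀.mul_mem hA' hB'⟩
  choose hfR hfA using hfour
  have hneg : ∀ k, (⟨-four k, D.neg' (hfR k)⟩ : R) ∈ A₀ := fun k => by
    have := A₀.mul_mem (Subgroup.subset_closure (Or.inl rfl) : (⟨-1, D.neg_mem⟩ : R) ∈ A₀) (hfA k)
    convert this using 1
    exact Subtype.ext (by simp)
  let φ : Bool × Fin 4 → A₀ := fun p => if p.1 then ⟨_, hneg p.2⟩ else ⟨_, hfA p.2⟩
  have hsim : ∀ k l, Sim (four k) (four l) → k = l := by
    have e1 : ¬ Sim a 1 := h1n i
    have e2 : ¬ Sim b 1 := h1n j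
    have e3 : ¬ Sim (a * b) 1 := fun h => hne (by
      rcases h with h | h
      · left; rw [← mul_one a, ← hsq j, ← mul_assoc, h, one_mul]
      · right; rw [← mul_one a, ← hsq j, ← mul_assoc, h, neg_one_mul])
    have e4 : ¬ Sim (a * b) a := fun h => e2 (by
      rcases h with h | h
      · left; exact mul_left_cancel (h.trans (mul_one a).symm)
      · right; exact mul_left_cancel (h.trans (by rw [mul_neg, mul_one])))
    have e5 : ¬ Sim (a * b) b := fun h => e1 (by
      rcases h with h | h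
      · left; exact mul_right_cancel (h.trans (one_mul b).symm)
      · right; exact mul_right_cancel (h.trans (by rw [neg_mul, one_mul])))
    intro k l h
    fin_cases k <;> fin_cases l <;> simp [four] at h ⊢
    all_goals first
      | exact e1 h | exact e1 h.symm | exact e2 h | exact e2 h.symm | exact e3 h | exact e3 h.symm
      | exact e4 h | exact e4 h.symm | exact e5 h | exact e5 h.symm | exact hne h | exact hne h.symm
  have hφ : Function.Injective φ := by
    rintro ⟨s, k⟩ ⟨s', l⟩ h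
    have h' := congrArg (fun x : A₀ => ((x : R) : G4 F)) h
    have hkl : k = l := hsim k l (by
      cases s <;> cases s' <;> simp [φ] at h'
      · exact Or.inl h'
      · exact Or.inr h'
      · exact Or.inr (neg_eq_iff_eq_neg.1 h')
      · exact Or.inl h')
    subst hkl
    cases s <;> cases s'
    · rfl
    · exact absurd h' (by simpa [φ] using one_ne_neg D.two (four k))
    · exact absurd h'.symm (by simpa [φ] using one_ne_neg D.two (four k))
    · rfl
  have h9 := Nat.card_le_card_of_injective φ hφ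
  simp at h9
  omega

end Cfsg.Agent.SympType4
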